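import Mathlib.Tactic
import Mathlib.GroupTheory.QuotientGroup.Basic
import Cfsg.Prelude.Def_KGroupFacts
import Cfsg.Agent.H419.EP.Targets_m3
import Cfsg.Agent.Lib.Cores
import Cfsg.Agent.H918.TransvTensor
import Cfsg.Agent.H905.SLProper
import Cfsg.Agent.H908.SLTrans
import Cfsg.Agent.H955.QMinus
import Cfsg.Agent.UGT.U2.Rec.Congr
import Cfsg.Agent.LieClassical.OrthFinite
import Mathlib
import Cfsg.Agent.H395.EPM.Perm_m3
import Cfsg.Agent.H209.EPX.Defs_m3
import Cfsg.Agent.KFacts.MM.OutAut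
import Cfsg.Agent.H341.ThreeList_m3
import Cfsg.Agent.H729.EPM.PSp
import Cfsg.Agent.GenOrth.Normal
import Cfsg.Agent.H173.OI.Shape
import Cfsg.Agent.H528.EP.UB3_m3
import Cfsg.Agent.DS.Gen.Split
import Cfsg.Agent.S0814
import Cfsg.Agent.S0292
import Cfsg.Prelude.Def_G2
import Cfsg.Agent.H392.UG.Base
import Cfsg.Agent.S0813
import Cfsg.Agent.S0243
import Cfsg.Agent.ClassicalGeometry.PSL2Basic
import Cfsg.Agent.FastGrp
import Cfsg.Agent.Prune
set_option linter.all false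

section
prune_inst 0x7ffcfdfbebf83ddeffff7e7ff6f9cffc3990dfffe6dff94bffece1ffafdf230a0be5fbaf0de010ff1ed6e01c10b87853fb7eeeffe06fdc7ffffd5ff45ffbee5ff5f7bd08719798340fbc6fffe3f07f8e7f3fffffffffffffffffffffffffffbeffbfffffffff

-- part: H243/EP/OwnNum
section
set_option linter.all false
open scoped Cfsg.Agent.FastGrp

/-!
# S3499, VII13-EXC: numbers (helper243)
-/

set_option autoImplicit false

namespace Cfsg.Agent.H243.EP

/-- `|Aut L| ≤ |Out L| |L|` -/
theorem card_aut_le {L : Type*} [Group L] [Finite L] :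
    Nat.card (MulAut L) ≤ Nat.card (Cfsg.Out L) * Nat.card L := by
  rw [Subgroup.card_eq_card_quotient_mul_card_subgroup (Cfsg.Inn L)]
  exact Nat.mul_le_mul_left _
    (Nat.card_le_card_of_surjective _ (MonoidHom.rangeRestrict_surjective (MulAut.conj (G := L))))

end Cfsg.Agent.H243.EP
end

-- part: H793/EP/SLC4
section
prune_inst 0x100041400c2200000018008061002000600001920040000001400000004004400000080100000010103a200000000008100000e00000000000000000000000000000000080080000000000000000000000000000000000000000000000000004000000000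
set_option linter.all false
open scoped Cfsg.Agent.FastGrp

-- part: H793/EP/Tools
section
/-!
# S3499: consequences of `EPT` used for the geometric classes (helper793)

* `char_inv` : characteristic subgroups of `A` are `Γ`-invariant;
* `pgroup_free` : an element `≠ 1` of a normal `p`-subgroup of `A` lies in no other conjugate of `A`;
* `card_eq_of_comm` : (T2) commuting `Γ`-invariant subgroups `≠ 1` of `A` have the same order;
* `cent_eq_bot` : a simple normal subgroup `Y` of `A` with `|C_A(Y)| < |Y|` has `C_A(Y) = 1`.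
-/

set_option autoImplicit false

namespace Cfsg.Agent.H793.EP

open Subgroup Cfsg Cfsg.Agent.H284

variable {Q : Type*} [Group Q] [Finite Q] {A : Subgroup Q} {Γ : Subgroup (MulAut Q)} (h : EPT A Γ)

include h

/-- characteristic subgroups of `A` are `Γ`-invariant -/
theorem char_inv (K : Subgroup A) [hK : K.Characteristic] :
    ∀ σ ∈ Γ, ∀ k ∈ K.map A.subtype, σ k ∈ K.map A.subtype := by
  intro σ hσ
  have hs : ∀ y : A, σ y ∈ A := fun y => (h.inv σ hσ y).2 y.2
  let f : A →* A := (σ.toMonoidHom.comp A.subtype).codRestrict _ hs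
  have hf : Function.Injective f := by
    intro y z e
    have e' : σ y = σ z := Subtype.ext_iff.1 e
    exact Subtype.ext (σ.injective e')
  let τ : MulAut A := MulEquiv.ofBijective f (Finite.injective_iff_bijective.1 hf)
  have hτ : K.map τ.toMonoidHom = K := Subgroup.characteristic_iff_map_eq.1 hK τ
  rintro _ ⟨k, hk, rfl⟩
  have h1 : τ k ∈ K := by
    rw [← hτ]
    exact ⟨k, hk, rfl⟩
  exact ⟨τ k, h1, rfl⟩

/-- **(T1)** for normal `p`-subgroups of `A` -/
theorem pgroup_free {p : ℕ} [Fact p.Prime] {K : Subgroup Q} (hK : K ≤ A) (hKn : ∀ a ∈ A, ∀ k ∈ K, a * k * a⁻¹ ∈ K)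
    (hp : IsPGroup p K) {x : Q} (hx : x ∉ A) {k : Q} (hk : k ∈ K) (hkx : k ∈ cj x A) : k = 1 := by
  by_contra hk1
  have hn : (K.subgroupOf A).Normal := ⟨by
    rintro ⟨n, hn'⟩ hn ⟨a, ha⟩
    exact hKn a ha n hn⟩
  have hp' : IsPGroup p (K.subgroupOf A) := by
    intro g
    obtain ⟨j, hj⟩ := hp ⟨g, g.2⟩
    refine ⟨j, Subtype.ext (Subtype.ext ?_)⟩
    exact congrArg (fun z : K => (z : Q)) hj
  have hle : K.subgroupOf A ≤ pCore p A := Lib.Cores.le_pCore hn hp'
  have hch : (pCore p A).Characteristic := Lib.Cores.pCore_characteristic p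
  have hO : (pCore p A).map A.subtype ≤ A := by
    rintro _ ⟨y, -, rfl⟩
    exact y.2
  have hkO : k ∈ (pCore p A).map A.subtype := ⟨⟨k, hK hk⟩, hle hk, rfl⟩
  have hnil : Group.IsNilpotent ((pCore p A).map A.subtype) :=
    ((Lib.Cores.pCore_isPGroup (G := A) p).map A.subtype).isNilpotent
  have hne : (pCore p A).map A.subtype ≠ ⊥ := by
    intro e
    rw [e, mem_bot] at hkO
    exact hk1 hkO
  obtain ⟨-, -, -, h1, -⟩ := h.nilp _ hO (char_inv h (pCore p A)) hnil hne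
  have h2 : k ∈ (pCore p A).map A.subtype ⊓ cj x A := ⟨hkO, hkx⟩
  rw [(h1 x hx).1, mem_bot] at h2
  exact hk1 h2

omit [Finite Q] in
/-- **(T2)**, first part -/
theorem inf_of_comm {X Y : Subgroup Q} (hX : X ≤ A) (hY : Y ≤ A) (hXi : ∀ σ ∈ Γ, ∀ k ∈ X, σ k ∈ X)
    (hYi : ∀ σ ∈ Γ, ∀ k ∈ Y, σ k ∈ Y) (hc : ∀ a ∈ X, ∀ b ∈ Y, a * b = b * a) (hYne : Y ≠ ⊥) {x : Q} (hx : x ∉ A) :
    X ⊓ cj x A = ⊥ := by
  apply h.F1 x hx _ (inf_le_left.trans hX) ?_ inf_le_right
  intro σ hσ k hk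
  obtain ⟨y, hy, τ, hτ, hτx, rfl⟩ := h.fac hY hYi hYne hx hσ
  have h1 : τ k ∈ X := hXi τ hτ k (mem_inf.1 hk).1
  have h2 : τ k ∈ A ⊓ cj x A := h.stab_M0 hτ hτx ⟨hX (mem_inf.1 hk).1, (mem_inf.1 hk).2⟩
  have h3 : (MulAut.conj y * τ) k = τ k := by
    rw [MulAut.mul_apply, MulAut.conj_apply, ← hc _ h1 _ hy, mul_inv_cancel_right]
  rw [h3]
  exact ⟨h1, (mem_inf.1 h2).2⟩

omit [Finite Q] in
/-- `|X| |A ∩ Aˣ| = |A|` -/
theorem card_mul_of_inf {X : Subgroup Q} (hX : X ≤ A) (hXi : ∀ σ ∈ Γ, ∀ k ∈ X, σ k ∈ X) (hne : X ≠ ⊥) {x : Q}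
    (hx : x ∉ A) (hinf : X ⊓ cj x A = ⊥) : Nat.card X * Nat.card (A ⊓ cj x A : Subgroup Q) = Nat.card A := by
  rw [← Nat.card_prod]
  apply Nat.card_congr
  refine Equiv.ofBijective (fun p => (⟨p.1.1 * p.2.1, mul_mem (hX p.1.2) (mem_inf.1 p.2.2).1⟩ : A)) ⟨?_, ?_⟩
  · rintro ⟨a, b⟩ ⟨c, d⟩ he
    have e1 : (a : Q) * b = c * d := Subtype.ext_iff.1 he
    have e2 : (c : Q)⁻¹ * a = d * (b : Q)⁻¹ := by
      rw [inv_mul_eq_iff_eq_mul, ← mul_assoc, ← e1, mul_assoc, mul_inv_cancel, mul_one]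
    have h1 : (c : Q)⁻¹ * a ∈ X ⊓ cj x A := by
      refine ⟨X.mul_mem (X.inv_mem c.2) a.2, ?_⟩
      rw [e2]
      exact (cj x A).mul_mem (mem_inf.1 d.2).2 ((cj x A).inv_mem (mem_inf.1 b.2).2)
    rw [hinf, mem_bot] at h1
    rw [h1] at e2
    rw [inv_mul_eq_one] at h1
    have h2 : (d : Q) = b := by
      rw [eq_comm, mul_inv_eq_one] at e2
      exact e2
    exact Prod.ext (Subtype.ext h1.symm) (Subtype.ext h2.symm)
  · rintro ⟨g, hg⟩
    obtain ⟨k, hk, m, hm, e1⟩ := h.fac_A hX hXi hne hx hg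
    exact ⟨(⟨k, hk⟩, ⟨m, hm⟩), Subtype.ext e1.symm⟩

/-- **(T2)** commuting `Γ`-invariant subgroups `≠ 1` of `A` have the same order -/
theorem card_eq_of_comm {X Y : Subgroup Q} (hX : X ≤ A) (hY : Y ≤ A) (hXi : ∀ σ ∈ Γ, ∀ k ∈ X, σ k ∈ X)
    (hYi : ∀ σ ∈ Γ, ∀ k ∈ Y, σ k ∈ Y) (hc : ∀ a ∈ X, ∀ b ∈ Y, a * b = b * a) (hXne : X ≠ ⊥) (hYne : Y ≠ ⊥) :
    Nat.card X = Nat.card Y := by
  obtain ⟨x, hx⟩ := h.exists_notMem
  have h1 := card_mul_of_inf h hX hXi hXne hx (inf_of_comm h hX hY hXi hYi hc hYne hx)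
  have h2 := card_mul_of_inf h hY hYi hYne hx
    (inf_of_comm h hY hX hYi hXi (fun a ha b hb => (hc b hb a ha).symm) hXne hx)
  have h3 : 0 < Nat.card (A ⊓ cj x A : Subgroup Q) := Nat.card_pos
  exact Nat.eq_of_mul_eq_mul_right h3 (h1.trans h2.symm)

omit [Finite Q] in
/-- the centralizer of an invariant subgroup is invariant -/
theorem cent_inv {Y : Subgroup Q} (hYi : ∀ σ ∈ Γ, ∀ k ∈ Y, σ k ∈ Y) :
    ∀ σ ∈ Γ, ∀ k ∈ A ⊓ centralizer (Y : Set Q), σ k ∈ A ⊓ centralizer (Y : Set Q) := by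
  rintro σ hσ k ⟨hk, hk'⟩
  refine ⟨(h.inv σ hσ k).2 hk, mem_centralizer_iff.2 ?_⟩
  intro y hy
  have h1 := mem_centralizer_iff.1 hk' _ (hYi _ (inv_mem hσ) y hy)
  have h2 := congrArg σ h1
  rw [map_mul, map_mul, MulAut.apply_inv_self] at h2
  exact h2

omit h in
/-- a simple normal subgroup `Y` of `A` with `|C_A(Y)| < |Y|` is invariant -/
theorem inv_of_small {Y : Subgroup Q} (hY : Y ≤ A) (hYn : ∀ a ∈ A, ∀ y ∈ Y, a * y * a⁻¹ ∈ Y)
    (hs : IsSimpleGroup Y) (hlt : Nat.card (A ⊓ centralizer (Y : Set Q) : Subgroup Q) < Nat.card Y) {σ : MulAut Q}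
    (hσ : ∀ a, σ a ∈ A ↔ a ∈ A) : ∀ k ∈ Y, σ k ∈ Y := by
  have hcard : Nat.card (Y.map σ.toMonoidHom) = Nat.card Y := Subgroup.card_map_of_injective σ.injective
  have hn : ((Y.map σ.toMonoidHom ⊓ Y).subgroupOf Y).Normal := ⟨by
    rintro ⟨n, hn'⟩ hn ⟨a, ha⟩
    obtain ⟨⟨m, hm, hmn⟩, -⟩ := hn
    refine ⟨?_, Y.mul_mem (Y.mul_mem ha hn') (Y.inv_mem ha)⟩
    have h1 : σ (σ.symm a) = a := σ.apply_symm_apply a
    have h2 : σ.symm a ∈ A := (hσ _).1 (by rw [h1]; exact hY ha)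
    refine ⟨σ.symm a * m * (σ.symm a)⁻¹, hYn _ h2 m hm, ?_⟩
    have h3 : σ m = n := hmn
    change σ (σ.symm a * m * (σ.symm a)⁻¹) = a * n * a⁻¹
    rw [map_mul, map_mul, map_inv, h1, h3]⟩
  rcases hn.eq_bot_or_eq_top with h4 | h4
  · exfalso
    have hle : Y.map σ.toMonoidHom ≤ A ⊓ centralizer (Y : Set Q) := by
      rintro _ ⟨m, hm, rfl⟩
      have hmA : σ m ∈ A := (hσ m).2 (hY hm)
      refine ⟨hmA, mem_centralizer_iff.2 ?_⟩
      intro y hy
      have h5 : y * σ m * y⁻¹ * (σ m)⁻¹ ∈ Y.map σ.toMonoidHom ⊓ Y := by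
        refine ⟨?_, ?_⟩
        · have h1 : σ (σ.symm y) = y := σ.apply_symm_apply y
          have h2 : σ.symm y ∈ A := (hσ _).1 (by rw [h1]; exact hY hy)
          refine ⟨σ.symm y * m * (σ.symm y)⁻¹ * m⁻¹, Y.mul_mem (hYn _ h2 m hm) (Y.inv_mem hm), ?_⟩
          change σ (σ.symm y * m * (σ.symm y)⁻¹ * m⁻¹) = _
          rw [map_mul, map_mul, map_mul, map_inv, map_inv, h1]
        · have : y * σ m * y⁻¹ * (σ m)⁻¹ = y * (σ m * y⁻¹ * (σ m)⁻¹) := by group
          rw [this]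
          exact Y.mul_mem hy (hYn _ hmA _ (Y.inv_mem hy))
      have h6 : (⟨y * σ m * y⁻¹ * (σ m)⁻¹, h5.2⟩ : Y) ∈ (Y.map σ.toMonoidHom ⊓ Y).subgroupOf Y := h5
      rw [h4, mem_bot] at h6
      have h7 : y * σ m * y⁻¹ * (σ m)⁻¹ = 1 := congrArg Subtype.val h6
      rw [mul_inv_eq_one, mul_inv_eq_iff_eq_mul] at h7
      exact h7
    have := Subgroup.card_le_of_le hle
    omega
  · have h5 : Y ≤ Y.map σ.toMonoidHom := by
      intro y hy
      have h6 : (⟨y, hy⟩ : Y) ∈ (Y.map σ.toMonoidHom ⊓ Y).subgroupOf Y := by rw [h4]; exact mem_top _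
      exact (mem_inf.1 h6).1
    have h6 : Y = Y.map σ.toMonoidHom := Subgroup.eq_of_le_of_card_ge h5 hcard.le
    intro k hk
    rw [h6]
    exact ⟨k, hk, rfl⟩

/-- a simple normal subgroup `Y` of `A` with `|C_A(Y)| < |Y|` has trivial centralizer in `A` -/
theorem cent_eq_bot {Y : Subgroup Q} (hY : Y ≤ A) (hYn : ∀ a ∈ A, ∀ y ∈ Y, a * y * a⁻¹ ∈ Y)
    (hs : IsSimpleGroup Y) (hlt : Nat.card (A ⊓ centralizer (Y : Set Q) : Subgroup Q) < Nat.card Y) :
    A ⊓ centralizer (Y : Set Q) = ⊥ := by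
  by_contra hne
  have hYi : ∀ σ ∈ Γ, ∀ k ∈ Y, σ k ∈ Y := fun σ hσ => inv_of_small hY hYn hs hlt (h.inv σ hσ)
  have hYne : Y ≠ ⊥ := by
    have := hs.toNontrivial
    exact (Subgroup.nontrivial_iff_ne_bot Y).1 this
  have h1 := card_eq_of_comm h inf_le_left hY (cent_inv h hYi) hYi (by
    rintro a ⟨-, ha⟩ b hb
    exact (mem_centralizer_iff.1 ha b hb).symm) hne hYne
  omega

end Cfsg.Agent.H793.EP
end

-- part: H793/EP/SLC4
section
/-!
# S3499, linear groups, class C4 (helper793): `m.hat A` is in no stabiliser of a tensor decomposition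
-/

set_option autoImplicit false

namespace Cfsg.Agent.H793.EP

open Subgroup Cfsg Cfsg.Geo Cfsg.Agent.H284 Cfsg.Agent.H419.EP
open scoped Matrix MatrixGroups Kronecker

section kron

variable {ι : Type} [Fintype ι] [DecidableEq ι] {F : Type*} [Field F]

/-- the Kronecker product as a homomorphism -/
noncomputable def kron (n₁ n₂ : ℕ) (F : Type*) [Field F] :
    GL (Fin n₁) F × GL (Fin n₂) F →* GL (Fin n₁ × Fin n₂) F :=
  { toFun := fun x => ⟨(x.1 : Matrix (Fin n₁) (Fin n₁) F) ⊗ₖ (x.2 : Matrix (Fin n₂) (Fin n₂) F),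
      ((x.1⁻¹ : GL (Fin n₁) F) : Matrix (Fin n₁) (Fin n₁) F) ⊗ₖ ((x.2⁻¹ : GL (Fin n₂) F) : Matrix (Fin n₂) (Fin n₂) F),
      by rw [← Matrix.mul_kronecker_mul, ← Units.val_mul, ← Units.val_mul, mul_inv_cancel, mul_inv_cancel,
          Units.val_one, Units.val_one, Matrix.one_kronecker_one],
      by rw [← Matrix.mul_kronecker_mul, ← Units.val_mul, ← Units.val_mul, inv_mul_cancel, inv_mul_cancel,
          Units.val_one, Units.val_one, Matrix.one_kronecker_one]⟩
    map_one' := Units.ext (by simp)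
    map_mul' := fun x y => Units.ext (by
      change ((x.1 * y.1 : GL (Fin n₁) F) : Matrix (Fin n₁) (Fin n₁) F) ⊗ₖ ((x.2 * y.2 : GL (Fin n₂) F) :
        Matrix (Fin n₂) (Fin n₂) F) = ((x.1 : Matrix (Fin n₁) (Fin n₁) F) ⊗ₖ (x.2 : Matrix (Fin n₂) (Fin n₂) F)) *
          ((y.1 : Matrix (Fin n₁) (Fin n₁) F) ⊗ₖ (y.2 : Matrix (Fin n₂) (Fin n₂) F))
      rw [Units.val_mul, Units.val_mul, Matrix.mul_kronecker_mul]) }

theorem kron_coe {n₁ n₂ : ℕ} (a : GL (Fin n₁) F) (b : GL (Fin n₂) F) :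
    (kron n₁ n₂ F (a, b) : Matrix (Fin n₁ × Fin n₂) (Fin n₁ × Fin n₂) F) =
      (a : Matrix (Fin n₁) (Fin n₁) F) ⊗ₖ (b : Matrix (Fin n₂) (Fin n₂) F) := rfl

/-- the homomorphism to `GL ι F`. -/
noncomputable def kp {n₁ n₂ : ℕ} (e : ι ≃ Fin n₁ × Fin n₂) (P : GL ι F) :
    GL (Fin n₁) F × GL (Fin n₂) F →* GL ι F :=
  (MulAut.conj P).toMonoidHom.comp ((glReindex e.symm).toMonoidHom.comp (kron n₁ n₂ F))

theorem mem_tensor {n₁ n₂ : ℕ} (e : ι ≃ Fin n₁ × Fin n₂) (P : GL ι F) {g : GL ι F} :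
    g ∈ tensorProductSubgroup n₁ n₂ e P ↔ ∃ a b, kp e P (a, b) = g := by
  constructor
  · rintro ⟨_, ⟨k, ⟨a, b, hk⟩, rfl⟩, rfl⟩
    refine ⟨a, b, ?_⟩
    have h : kron n₁ n₂ F (a, b) = k := Units.ext hk.symm
    change (MulAut.conj P) (glReindex e.symm (kron n₁ n₂ F (a, b))) = _
    rw [h]
    rfl
  · rintro ⟨a, b, rfl⟩
    exact ⟨_, ⟨kron n₁ n₂ F (a, b), ⟨a, b, rfl⟩, rfl⟩, rfl⟩

theorem kp_scalar_iff {n₁ n₂ : ℕ} (e : ι ≃ Fin n₁ × Fin n₂) (P : GL ι F) (a : GL (Fin n₁) F) (b : GL (Fin n₂) F) :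
    kp e P (a, b) ∈ scalars ι F ↔ kron n₁ n₂ F (a, b) ∈ scalars (Fin n₁ × Fin n₂) F := by
  have h1 : kp e P (a, b) ∈ scalars ι F ↔ glReindex e.symm (kron n₁ n₂ F (a, b)) ∈ scalars ι F := by
    change P * glReindex e.symm (kron n₁ n₂ F (a, b)) * P⁻¹ ∈ scalars ι F ↔ _
    constructor
    · intro h
      have := (scalars_normal (ι := ι) (F := F)).conj_mem _ h P⁻¹
      have e1 : P⁻¹ * (P * glReindex e.symm (kron n₁ n₂ F (a, b)) * P⁻¹) * P⁻¹⁻¹ =
          glReindex e.symm (kron n₁ n₂ F (a, b)) := by group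
      rwa [e1] at this
    · intro h
      exact (scalars_normal (ι := ι) (F := F)).conj_mem _ h P
  rw [h1, mem_scalars_iff, mem_scalars_iff]
  refine exists_congr fun c => ?_
  have h2 : ((glReindex e.symm (kron n₁ n₂ F (a, b)) : GL ι F) : Matrix ι ι F) =
      Matrix.reindex e.symm e.symm (kron n₁ n₂ F (a, b) : Matrix (Fin n₁ × Fin n₂) (Fin n₁ × Fin n₂) F) := rfl
  rw [h2]
  constructor
  · intro h
    have h3 := congrArg (Matrix.reindex e e) h
    ext i j
    have h4 := congrFun (congrFun h3 i) j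
    simpa only [Matrix.one_apply, _root_.Matrix.smul_apply, _root_.smul_eq_mul, _root_.mul_ite, _root_.mul_one, _root_.MulZeroClass.mul_zero, _root_.Matrix.reindex_apply, _root_.Equiv.symm_symm, _root_.Matrix.submatrix_apply, _root_.Equiv.apply_symm_apply, _root_.EmbeddingLike.apply_eq_iff_eq] using h4
  · intro h
    rw [h]
    ext i j
    simp only [Matrix.one_apply, _root_.Matrix.reindex_apply, _root_.Equiv.symm_symm, _root_.Matrix.submatrix_apply, _root_.Matrix.smul_apply, _root_.EmbeddingLike.apply_eq_iff_eq, _root_.smul_eq_mul, _root_.mul_ite, _root_.mul_one, _root_.MulZeroClass.mul_zero]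

/-- the factors of a scalar Kronecker product are scalar -/
theorem scalar_of_kron {n₁ n₂ : ℕ} (h₁ : 0 < n₁) (h₂ : 0 < n₂) {a : GL (Fin n₁) F} {b : GL (Fin n₂) F}
    (h : kron n₁ n₂ F (a, b) ∈ scalars (Fin n₁ × Fin n₂) F) : a ∈ scalars (Fin n₁) F ∧ b ∈ scalars (Fin n₂) F := by
  obtain ⟨c, hc⟩ := (mem_scalars_iff _).1 h
  rw [kron_coe] at hc
  have he : ∀ i k j l, (a : Matrix (Fin n₁) (Fin n₁) F) i k * (b : Matrix (Fin n₂) (Fin n₂) F) j l =
      if i = k ∧ j = l then (c : F) else 0 := by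
    intro i k j l
    have := congrFun (congrFun hc (i, j)) (k, l)
    rw [Matrix.kroneckerMap_apply, Matrix.smul_apply, Matrix.one_apply] at this
    rw [this]
    simp only [Prod.mk.injEq, smul_eq_mul, mul_ite, mul_one, mul_zero]
  have hc0 : (c : F) ≠ 0 := c.ne_zero
  let i0 : Fin n₁ := ⟨0, h₁⟩
  let j0 : Fin n₂ := ⟨0, h₂⟩
  have hd : ∀ i j, (a : Matrix (Fin n₁) (Fin n₁) F) i i * (b : Matrix (Fin n₂) (Fin n₂) F) j j = c := by
    intro i j
    rw [he, if_pos ⟨rfl, rfl⟩]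
  have ha0 : ∀ i, (a : Matrix (Fin n₁) (Fin n₁) F) i i ≠ 0 := by
    intro i hi
    have := hd i j0
    rw [hi, zero_mul] at this
    exact hc0 this.symm
  have hb0 : ∀ j, (b : Matrix (Fin n₂) (Fin n₂) F) j j ≠ 0 := by
    intro j hj
    have := hd i0 j
    rw [hj, mul_zero] at this
    exact hc0 this.symm
  constructor
  · rw [mem_scalars_iff]
    refine ⟨Units.mk0 _ (ha0 i0), ?_⟩
    ext i k
    rw [Matrix.smul_apply, Matrix.one_apply, Units.val_mk0, smul_eq_mul]
    by_cases hik : i = k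
    · subst hik
      rw [if_pos rfl, mul_one]
      have h1 := hd i j0
      rw [← hd i0 j0] at h1
      exact mul_right_cancel₀ (hb0 j0) h1
    · rw [if_neg hik, mul_zero]
      have h1 := he i k j0 j0
      rw [if_neg (fun hh => hik hh.1)] at h1
      exact (mul_eq_zero.1 h1).resolve_right (hb0 j0)
  · rw [mem_scalars_iff]
    refine ⟨Units.mk0 _ (hb0 j0), ?_⟩
    ext j l
    rw [Matrix.smul_apply, Matrix.one_apply, Units.val_mk0, smul_eq_mul]
    by_cases hjl : j = l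
    · subst hjl
      rw [if_pos rfl, mul_one]
      have h1 := hd i0 j
      rw [← hd i0 j0] at h1
      exact mul_left_cancel₀ (ha0 i0) h1
    · rw [if_neg hjl, mul_zero]
      have h1 := he i0 i0 j l
      rw [if_neg (fun hh => hjl hh.2)] at h1
      exact (mul_eq_zero.1 h1).resolve_left (ha0 i0)

theorem kp_det {n₁ n₂ : ℕ} (e : ι ≃ Fin n₁ × Fin n₂) (P : GL ι F) (a : GL (Fin n₁) F) (b : GL (Fin n₂) F) :
    ((kp e P (a, b) : GL ι F) : Matrix ι ι F).det =
      (a : Matrix (Fin n₁) (Fin n₁) F).det ^ n₂ * (b : Matrix (Fin n₂) (Fin n₂) F).det ^ n₁ := by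
  have h1 : ((kp e P (a, b) : GL ι F) : Matrix ι ι F) = (P : Matrix ι ι F) *
      Matrix.reindex e.symm e.symm (kron n₁ n₂ F (a, b) : Matrix (Fin n₁ × Fin n₂) (Fin n₁ × Fin n₂) F) *
        ((P⁻¹ : GL ι F) : Matrix ι ι F) := rfl
  have h2 : (P : Matrix ι ι F).det * ((P⁻¹ : GL ι F) : Matrix ι ι F).det = 1 := by
    rw [← Matrix.det_mul, ← Units.val_mul, mul_inv_cancel, Units.val_one, Matrix.det_one]
  rw [h1, Matrix.det_mul, Matrix.det_mul, mul_right_comm, h2, one_mul, Matrix.det_reindex_self, kron_coe,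
    Matrix.det_kronecker, Fintype.card_fin, Fintype.card_fin]

theorem kp_mem_sl {n₁ n₂ : ℕ} (e : ι ≃ Fin n₁ × Fin n₂) (P : GL ι F) {a : GL (Fin n₁) F} {b : GL (Fin n₂) F}
    (ha : a ∈ specialLinear (Fin n₁) F) (hb : b ∈ specialLinear (Fin n₂) F) :
    kp e P (a, b) ∈ specialLinear ι F := by
  rw [H908.mem_sl_iff] at *
  rw [kp_det, ha, hb, one_pow, one_pow, one_mul]

/-- a scalar second factor can be moved to the first -/
theorem kp_of_scalar {n₁ n₂ : ℕ} (e : ι ≃ Fin n₁ × Fin n₂) (P : GL ι F) (a : GL (Fin n₁) F) {b : GL (Fin n₂) F}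
    (hb : b ∈ scalars (Fin n₂) F) : ∃ a', kp e P (a, b) = kp e P (a', 1) := by
  obtain ⟨c, rfl⟩ := hb
  refine ⟨a * Units.map (Matrix.scalar (Fin n₁) : F →+* _).toMonoidHom c, ?_⟩
  have : kron n₁ n₂ F (a, Units.map (Matrix.scalar (Fin n₂) : F →+* _).toMonoidHom c) =
      kron n₁ n₂ F (a * Units.map (Matrix.scalar (Fin n₁) : F →+* _).toMonoidHom c, 1) := by
    apply Units.ext
    rw [kron_coe, kron_coe]
    ext ⟨i, j⟩ ⟨k, l⟩
    rw [Matrix.kroneckerMap_apply, Matrix.kroneckerMap_apply, Units.val_mul]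
    have h1 : ((Units.map (Matrix.scalar (Fin n₂) : F →+* _).toMonoidHom c : GL (Fin n₂) F) :
        Matrix (Fin n₂) (Fin n₂) F) = (c : F) • 1 := by
      simp [Matrix.smul_one_eq_diagonal]
    have h2 : ((Units.map (Matrix.scalar (Fin n₁) : F →+* _).toMonoidHom c : GL (Fin n₁) F) :
        Matrix (Fin n₁) (Fin n₁) F) = (c : F) • 1 := by
      simp [Matrix.smul_one_eq_diagonal]
    rw [h1, h2, Matrix.mul_smul, Matrix.mul_one, Units.val_one]
    simp only [Matrix.smul_apply, smul_eq_mul]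
    ring
  change (MulAut.conj P) (glReindex e.symm _) = (MulAut.conj P) (glReindex e.symm _)
  rw [this]

theorem kp_one_inj {n₁ n₂ : ℕ} (h₁ : 0 < n₁) (e : ι ≃ Fin n₁ × Fin n₂) (P : GL ι F) {b b' : GL (Fin n₂) F}
    (h : kp e P (1, b) = kp e P (1, b')) : b = b' := by
  have h1 : kron n₁ n₂ F (1, b) = kron n₁ n₂ F (1, b') := by
    apply (glReindex (F := F) e.symm).injective
    apply (MulAut.conj P).injective
    exact h
  apply Units.ext
  ext j l
  have h2 := congrArg (fun g : GL (Fin n₁ × Fin n₂) F => (g : Matrix (Fin n₁ × Fin n₂) (Fin n₁ × Fin n₂) F)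
    ((⟨0, h₁⟩ : Fin n₁), j) ((⟨0, h₁⟩ : Fin n₁), l)) h1
  simpa [kron_coe, Matrix.kroneckerMap_apply] using h2

/-- `|GL_{n₁}(q)| < |SL_{n₂}(q)|` for `n₁ < n₂` -/
theorem card_GL_lt_SL [Finite F] {n₁ n₂ : ℕ} (h₁ : 0 < n₁) (h12 : n₁ < n₂) :
    Nat.card (GL (Fin n₁) F) < Nat.card (specialLinear (Fin n₂) F) := by
  obtain ⟨k, rfl⟩ : ∃ k, n₂ = n₁ + (k + 1) := ⟨n₂ - n₁ - 1, by omega⟩
  let E : Fin n₁ ⊕ Fin (k + 1) ≃ Fin (n₁ + (k + 1)) := finSumFinEquiv
  let D : GL (Fin n₁) F → Matrix (Fin (k + 1)) (Fin (k + 1)) F := fun a =>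
    Matrix.diagonal (Function.update (fun _ => (1 : F)) 0 ((a : Matrix (Fin n₁) (Fin n₁) F).det)⁻¹)
  have hD : ∀ a, (D a).det = ((a : Matrix (Fin n₁) (Fin n₁) F).det)⁻¹ := by
    intro a
    rw [Matrix.det_diagonal, Finset.prod_update_of_mem (Finset.mem_univ _)]
    simp only [_root_.Finset.prod_const_one, _root_.mul_one]
  let f : GL (Fin n₁) F × F → specialLinear (Fin (n₁ + (k + 1))) F := fun x =>
    ⟨H908.slMk (Matrix.reindex E E (Matrix.fromBlocks (x.1 : Matrix (Fin n₁) (Fin n₁) F) (Matrix.of fun _ _ => x.2) 0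
      (D x.1))) (by
        rw [Matrix.det_reindex_self, Matrix.det_fromBlocks_zero₂₁, hD]
        exact mul_inv_cancel₀ ((Matrix.isUnit_iff_isUnit_det _).1 x.1.isUnit).ne_zero), H908.slMk_mem _ _⟩
  have hf : Function.Injective f := by
    rintro ⟨a, c⟩ ⟨a', c'⟩ h
    have h1 : Matrix.reindex E E (Matrix.fromBlocks (a : Matrix (Fin n₁) (Fin n₁) F) (Matrix.of fun _ _ => c) 0
      (D a)) = Matrix.reindex E E (Matrix.fromBlocks (a' : Matrix (Fin n₁) (Fin n₁) F) (Matrix.of fun _ _ => c') 0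
      (D a')) := congrArg (fun g : specialLinear (Fin (n₁ + (k + 1))) F =>
        ((g : GL (Fin (n₁ + (k + 1))) F) : Matrix (Fin (n₁ + (k + 1))) (Fin (n₁ + (k + 1))) F)) h
    have h2 := (Matrix.reindex E E).injective h1
    rw [Matrix.fromBlocks_inj] at h2
    have h3 := congrFun (congrFun h2.2.1 ⟨0, h₁⟩) 0
    exact Prod.ext (Units.ext h2.1) h3
  have h1 := Nat.card_le_card_of_injective f hf
  rw [Nat.card_prod] at h1
  have h2 : 1 < Nat.card F := Finite.one_lt_card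
  have h3 : 0 < Nat.card (GL (Fin n₁) F) := Nat.card_pos
  nlinarith only [h1, h2, h3]

end kron

section counting

/-- the order of the preimage under a surjection -/
theorem card_comap {S Q : Type*} [Group S] [Group Q] [Finite S] (f : S →* Q) (hf : Function.Surjective f)
    (B : Subgroup Q) : Nat.card (B.comap f) = Nat.card B * Nat.card f.ker := by
  have h1 : (B.comap f).index = B.index := Subgroup.index_comap_of_surjective B hf
  have h2 := (B.comap f).card_mul_index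
  have : Finite Q := Finite.of_surjective f hf
  have h3 := B.card_mul_index
  have h4 := f.ker.card_mul_index
  rw [Subgroup.index_ker, MonoidHom.range_eq_top.2 hf, Subgroup.card_top] at h4
  have h5 : B.index ≠ 0 := Subgroup.index_ne_zero_of_finite
  rw [h1, ← h4, ← h3] at h2
  apply Nat.eq_of_mul_eq_mul_right (Nat.pos_of_ne_zero h5)
  rw [h2]
  ring

end counting

variable {Q : Type*} [Group Q] [Finite Q] {A : Subgroup Q} {Γ : Subgroup (MulAut Q)}
  {F : Type*} [Field F] [Fintype F] {ι : Type} [Fintype ι] [DecidableEq ι]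

/-- **(SL-C4)** `m.hat A` is in no stabiliser of a tensor decomposition -/
theorem sl_c4' (h : EPT A Γ) (m : Model Q (specialLinear ι F)) {n₁ n₂ : ℕ} (e : ι ≃ Fin n₁ × Fin n₂) (P : GL ι F)
    (h₁ : 2 ≤ n₁) (h12 : n₁ < n₂) (hA : m.hat A ≤ tensorProductSubgroup n₁ n₂ e P) : False := by
  classical
  have hS : ¬ specialLinear ι F ≤ tensorProductSubgroup n₁ n₂ e P := by
    obtain ⟨i, j, hij⟩ : ∃ i j : ι, i ≠ j := by
      refine ⟨e.symm (⟨0, by omega⟩, ⟨0, by omega⟩), e.symm (⟨0, by omega⟩, ⟨1, by omega⟩), fun h0 => ?_⟩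
      have := e.symm.injective h0
      simp at this
    refine H918.not_le_tensorProductSubgroup (H905.tv_mem hij (1 : F)) ⟨Pi.single i 1, Pi.single j 1, ?_, ?_, ?_⟩ h₁
      (by omega) e P
    · simp
    · simp
    · rw [H905.tv_val, Matrix.single_eq_single_vecMulVec_single]
  have hAeq := H918.eq_inf_of_maximal (m.isMaximalIn h.max) hA hS
  have hmem : ∀ g : GL ι F, g ∈ m.hat A ↔ (∃ a b, kp e P (a, b) = g) ∧ g ∈ specialLinear ι F := by
    intro g
    rw [hAeq, mem_inf, mem_tensor]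
  -- the homomorphism of `SL_{n₂}`
  have hone : (1 : GL (Fin n₁) F) ∈ specialLinear (Fin n₁) F := one_mem _
  let ψ : specialLinear (Fin n₂) F →* specialLinear ι F :=
    { toFun := fun b => ⟨kp e P (1, b), kp_mem_sl e P hone b.2⟩
      map_one' := Subtype.ext (map_one (kp e P))
      map_mul' := fun b c => Subtype.ext (by
        change kp e P (1, (b : GL (Fin n₂) F) * c) = kp e P (1, b) * kp e P (1, c)
        rw [← map_mul, Prod.mk_mul_mk, one_mul]) }
  have hψ : ∀ b, ((ψ b : specialLinear ι F) : GL ι F) = kp e P (1, b) := fun b => rfl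
  let φ : specialLinear (Fin n₂) F →* Q := m.π.comp ψ
  have hφ : ∀ b, φ b = m.π (ψ b) := fun b => rfl
  set Y : Subgroup Q := φ.range with hY
  have hYA : Y ≤ A := by
    rintro _ ⟨b, rfl⟩
    rw [hφ, ← m.mem_hat_iff, hmem]
    exact ⟨⟨1, b, rfl⟩, (ψ b).2⟩
  have hYn : ∀ a ∈ A, ∀ y ∈ Y, a * y * a⁻¹ ∈ Y := by
    rintro a ha _ ⟨b, rfl⟩
    obtain ⟨s, rfl⟩ := m.surj a
    rw [← m.mem_hat_iff, hmem] at ha
    obtain ⟨⟨c, d, hcd⟩, -⟩ := ha
    have hN : (specialLinear (Fin n₂) F).Normal := MonoidHom.normal_ker _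
    refine ⟨⟨d * b * d⁻¹, hN.conj_mem _ b.2 d⟩, ?_⟩
    rw [hφ, hφ, ← map_mul, ← map_inv, ← map_mul]
    congr 1
    apply Subtype.ext
    change kp e P (1, d * b * d⁻¹) = (s : GL ι F) * kp e P (1, b) * (s : GL ι F)⁻¹
    rw [← hcd, ← map_mul, ← map_inv, ← map_mul, Prod.inv_mk, Prod.mk_mul_mk, Prod.mk_mul_mk, mul_one, mul_inv_cancel]
  have hker : ∀ b, φ b = 1 ↔ (b : GL (Fin n₂) F) ∈ scalars (Fin n₂) F := by
    intro b
    rw [hφ, m.ker, hψ, kp_scalar_iff]
    constructor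
    · intro h1
      exact (scalar_of_kron (by omega) (by omega) h1).2
    · rintro ⟨c, hc⟩
      rw [mem_scalars_iff]
      refine ⟨c, ?_⟩
      have h1 : ((b : GL (Fin n₂) F) : Matrix (Fin n₂) (Fin n₂) F) = (c : F) • 1 := by
        rw [← hc]
        simp [Matrix.smul_one_eq_diagonal]
      rw [kron_coe, h1, Units.val_one, Matrix.kronecker_smul, Matrix.one_kronecker_one]
  -- `Y` is simple
  have hYs : IsSimpleGroup Y := by
    have h0 : IsSimpleGroup (Matrix.ProjectiveSpecialLinearGroup (Fin n₂) F) :=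
      LieClassical.SLGen.psl_isSimpleGroup (by rw [Fintype.card_fin]; omega)
    let T : Matrix.SpecialLinearGroup (Fin n₂) F →* specialLinear (Fin n₂) F :=
      (Matrix.SpecialLinearGroup.toGL (n := Fin n₂) (R := F)).codRestrict _ (fun b => by
        rw [H908.mem_sl_iff]; exact b.2)
    have hT : ∀ b, ((T b : specialLinear (Fin n₂) F) : GL (Fin n₂) F) = b.toGL := fun b => rfl
    have hrange : (φ.comp T).range = Y := by
      ext y
      constructor
      · rintro ⟨b, rfl⟩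
        exact ⟨T b, rfl⟩
      · rintro ⟨b, rfl⟩
        refine ⟨⟨_, (H908.mem_sl_iff _).1 b.2⟩, ?_⟩
        rw [MonoidHom.comp_apply]
        exact congrArg φ (Subtype.ext (Units.ext rfl))
    have hk : (φ.comp T).ker = Subgroup.center (Matrix.SpecialLinearGroup (Fin n₂) F) := by
      ext b
      rw [MonoidHom.mem_ker, MonoidHom.comp_apply, hker, hT, Matrix.SpecialLinearGroup.mem_center_iff,
        mem_scalars_iff]
      constructor
      · rintro ⟨c, hc⟩
        have h1 : (b : Matrix (Fin n₂) (Fin n₂) F) = (c : F) • 1 := hc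
        refine ⟨c, ?_, ?_⟩
        · have h2 := b.2
          rw [h1, Matrix.det_smul, Matrix.det_one, mul_one] at h2
          exact h2
        · rw [h1]
          simp [Matrix.smul_one_eq_diagonal]
      · rintro ⟨c, hc, hc'⟩
        have hc0 : c ≠ 0 := by
          rintro rfl
          rw [zero_pow (by rw [Fintype.card_fin]; omega)] at hc
          exact zero_ne_one hc
        refine ⟨Units.mk0 c hc0, ?_⟩
        change (b : Matrix (Fin n₂) (Fin n₂) F) = c • 1
        rw [← hc']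
        simp [Matrix.smul_one_eq_diagonal]
    rw [← hrange]
    have E : Matrix.ProjectiveSpecialLinearGroup (Fin n₂) F ≃* (φ.comp T).range :=
      (QuotientGroup.quotientMulEquivOfEq hk.symm).trans (QuotientGroup.quotientKerEquivRange (φ.comp T))
    exact E.symm.isSimpleGroup
  -- the centralizer of `Y`
  have hcent : ∀ s : specialLinear ι F, m.π s ∈ A ⊓ centralizer (Y : Set Q) → ∃ a, kp e P (a, 1) = s := by
    rintro s ⟨hs1, hs2⟩
    have hs1' : (s : GL ι F) ∈ m.hat A := (m.mem_hat_iff s).2 hs1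
    obtain ⟨⟨a, b, hab⟩, -⟩ := (hmem _).1 hs1'
    have hb : b ∈ scalars (Fin n₂) F := by
      have : Nonempty (Fin n₂) := ⟨⟨0, by omega⟩⟩
      apply H918.mem_scalars_of_commute H905.sl_actsAbsolutelyIrreducibly
      have hperf := H908.perfect_specialLinear (ι := Fin n₂) (F := F) (by rw [Fintype.card_fin]; omega)
      intro g hg
      rw [← hperf] at hg
      refine H918.commute_commutator_of_scalar (fun y hy => ?_) g hg
      have h1 := mem_centralizer_iff.1 hs2 (φ ⟨y, hy⟩) ⟨⟨y, hy⟩, rfl⟩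
      have h2 : m.π (s * ψ ⟨y, hy⟩ * s⁻¹ * (ψ ⟨y, hy⟩)⁻¹) = 1 := by
        rw [map_mul, map_mul, map_mul, map_inv, map_inv, ← hφ, ← h1]
        group
      rw [m.ker] at h2
      have h3 : ((s * ψ ⟨y, hy⟩ * s⁻¹ * (ψ ⟨y, hy⟩)⁻¹ : specialLinear ι F) : GL ι F) =
          kp e P (1, b * y * b⁻¹ * y⁻¹) := by
        change (s : GL ι F) * kp e P (1, y) * (s : GL ι F)⁻¹ * (kp e P (1, y))⁻¹ = _
        rw [← hab, ← map_mul, ← map_inv, ← map_mul, ← map_inv, ← map_mul]
        congr 1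
        simp only [_root_.Prod.mk_mul_mk, _root_.mul_one, _root_.Prod.inv_mk, _root_.mul_inv_cancel, _root_.inv_one]
      rw [h3, kp_scalar_iff] at h2
      exact (scalar_of_kron (by omega) (by omega) h2).2
    obtain ⟨a', ha'⟩ := kp_of_scalar e P a hb
    exact ⟨a', by rw [← ha', hab]⟩
  -- counting
  have hlt : Nat.card (A ⊓ centralizer (Y : Set Q) : Subgroup Q) < Nat.card Y := by
    have h2 := card_comap m.π m.surj (A ⊓ centralizer (Y : Set Q))
    have h3 := card_comap m.π m.surj Y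
    have h4 : Nat.card ((A ⊓ centralizer (Y : Set Q)).comap m.π) ≤ Nat.card (GL (Fin n₁) F) := by
      choose! g hg using hcent
      refine Nat.card_le_card_of_injective (fun s : (A ⊓ centralizer (Y : Set Q)).comap m.π => g s) ?_
      intro s s' hss
      apply Subtype.ext
      apply Subtype.ext
      rw [← hg s s.2, ← hg s' s'.2]
      exact congrArg (fun a => kp e P (a, 1)) hss
    have h5 : Nat.card (specialLinear (Fin n₂) F) ≤ Nat.card (Y.comap m.π) := by
      refine Nat.card_le_card_of_injective (fun b => (⟨ψ b, ⟨b, rfl⟩⟩ : Y.comap m.π)) ?_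
      intro b b' hbb
      apply Subtype.ext
      apply kp_one_inj (by omega) e P
      have h6 : ψ b = ψ b' := Subtype.ext_iff.1 hbb
      exact congrArg (fun s : specialLinear ι F => (s : GL ι F)) h6
    have h6 := card_GL_lt_SL (F := F) (n₁ := n₁) (n₂ := n₂) (by omega) h12
    have h7 := (h2.symm.le.trans h4).trans_lt (h6.trans_le (h5.trans h3.le))
    exact lt_of_mul_lt_mul_right h7 (Nat.zero_le _)
  -- the centralizer of `Y` is not trivial
  have hbot := cent_eq_bot h hYA hYn hYs hlt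
  have hij : (⟨0, by omega⟩ : Fin n₁) ≠ ⟨1, by omega⟩ := by
    intro h0
    simp at h0
  set t : GL (Fin n₁) F := H905.tv hij (1 : F) with ht
  have htS : t ∈ specialLinear (Fin n₁) F := H905.tv_mem hij 1
  have hone2 : (1 : GL (Fin n₂) F) ∈ specialLinear (Fin n₂) F := one_mem _
  have hkS : kp e P (t, 1) ∈ specialLinear ι F := kp_mem_sl e P htS hone2
  have h1 : m.π ⟨kp e P (t, 1), hkS⟩ ∈ A ⊓ centralizer (Y : Set Q) := by
    refine ⟨(m.mem_hat_iff ⟨_, hkS⟩).1 ((hmem _).2 ⟨⟨t, 1, rfl⟩, hkS⟩), mem_centralizer_iff.2 ?_⟩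
    rintro _ ⟨b, rfl⟩
    rw [hφ, ← map_mul, ← map_mul]
    congr 1
    apply Subtype.ext
    change kp e P (1, b) * kp e P (t, 1) = kp e P (t, 1) * kp e P (1, b)
    rw [← map_mul, ← map_mul]
    congr 1
    simp
  rw [hbot, mem_bot, m.ker] at h1
  have h2 : kron n₁ n₂ F (t, 1) ∈ scalars (Fin n₁ × Fin n₂) F := (kp_scalar_iff e P t 1).1 h1
  obtain ⟨c, hc⟩ := (mem_scalars_iff _).1 (scalar_of_kron (by omega) (by omega) h2).1
  rw [ht, H905.tv_val] at hc
  have h3 := congrFun (congrFun hc ⟨0, by omega⟩) ⟨1, by omega⟩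
  rw [Matrix.add_apply, Matrix.single_apply_same, Matrix.one_apply_ne hij, Matrix.smul_apply, Matrix.one_apply_ne hij,
    smul_zero, zero_add] at h3
  exact one_ne_zero h3

/-- **(SL-C4)** -/
theorem sl_c4 (_hs : IsSimpleGroup Q) (h : EPT A Γ) {n : ℕ} (m : Model Q (specialLinear (Fin n) F)) {n₁ n₂ : ℕ}
    (e : Fin n ≃ Fin n₁ × Fin n₂) (P : GL (Fin n) F) (h₁ : 2 ≤ n₁) (h12 : n₁ < n₂)
    (hA : m.hat A ≤ tensorProductSubgroup n₁ n₂ e P) : False := sl_c4' h m e P h₁ h12 hA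

end Cfsg.Agent.H793.EP
end
end

-- part: H621/EP/OrdO
section
set_option linter.all false
open scoped Cfsg.Agent.FastGrp

/-!
# S3499: the simple group with a model `omegaGL Qf` is `PΩ` of a standard form (helper621)

* `equiv_of_models` : two groups with a model `S` are isomorphic;
* `pomega_of_equiv` : `PΩ` of isometric quadratic spaces;
* `model_minus`, `model_plus` : `Q ≃* POmega F (quadFormMinus (m-1) F 1 ζ)` resp. `POmega F (quadFormPlus m F)`.
-/

set_option autoImplicit false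

namespace Cfsg.Agent.H621.EP

open Subgroup Cfsg Cfsg.Geo Cfsg.Agent.H419.EP
open QuadraticMap Cfsg.Agent.LieClassical.OrthCore Cfsg.Agent.LieClassical.OrthTrans
open scoped MatrixGroups

section models

variable {ι : Type} [Fintype ι] [DecidableEq ι] {F : Type*} [Field F]

/-- Two groups with the same model are isomorphic. -/
theorem equiv_of_models {Q Q' : Type*} [Group Q] [Group Q'] {S : Subgroup (GL ι F)} (m : Model Q S)
    (m' : Model Q' S) : Nonempty (Q ≃* Q') := by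
  have h1 : m.π.ker = m'.π.ker := by
    ext s
    rw [MonoidHom.mem_ker, MonoidHom.mem_ker, m.ker, m'.ker]
  exact ⟨((QuotientGroup.quotientKerEquivOfSurjective m.π m.surj).symm.trans
    (QuotientGroup.quotientMulEquivOfEq h1)).trans (QuotientGroup.quotientKerEquivOfSurjective m'.π m'.surj)⟩

end models

section equiv

variable {ι ι' : Type} [Fintype ι] [DecidableEq ι] [Fintype ι'] [DecidableEq ι'] {F : Type*} [Field F]

/-- conjugation with a linear equivalence -/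
def cjE {V V' : Type*} [AddCommGroup V] [Module F V] [AddCommGroup V'] [Module F V'] (e : V' ≃ₗ[F] V) :
    (V' ≃ₗ[F] V') ≃* (V ≃ₗ[F] V) where
  toFun g := (e.symm.trans g).trans e
  invFun g := (e.trans g).trans e.symm
  left_inv g := by ext v; simp
  right_inv g := by ext v; simp
  map_mul' g h := by ext v; simp

theorem map_cjE_O {V V' : Type*} [AddCommGroup V] [Module F V] [AddCommGroup V'] [Module F V']
    {Q : QuadraticForm F V} {Q' : QuadraticForm F V'} (e : V' ≃ₗ[F] V) (he : ∀ u, Q (e u) = Q' u) :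
    (O Q').map (cjE e).toMonoidHom = O Q := by
  ext g
  constructor
  · rintro ⟨k, hk, rfl⟩
    rw [mem_O]
    intro v
    show Q (e (k (e.symm v))) = Q v
    rw [he, mem_O.1 hk, ← he, e.apply_symm_apply]
  · intro hg
    refine ⟨(cjE e).symm g, ?_, (cjE e).apply_symm_apply g⟩
    show (cjE e).symm g ∈ O Q'
    rw [mem_O]
    intro v
    show Q' (e.symm (g (e v))) = Q' v
    rw [← he, e.apply_symm_apply, mem_O.1 hg, he]

/-- `PΩ` of isometric spaces -/
theorem pomega_of_equiv {Q : QuadraticForm F (ι → F)} {Q' : QuadraticForm F (ι' → F)}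
    (e : (ι' → F) ≃ₗ[F] (ι → F)) (he : ∀ u, Q (e u) = Q' u) :
    Nonempty (POmega F ⇑Q ≃* POmega F ⇑Q') := by
  have f1 : O Q' ≃* O Q := ((cjE e).subgroupMap (O Q')).trans (MulEquiv.subgroupCongr (map_cjE_O e he))
  have f2 : isometryGroup F ⇑Q ≃* isometryGroup F ⇑Q' :=
    ((LieClassical.OrthFinite.isometryEquiv Q).trans f1.symm).trans (LieClassical.OrthFinite.isometryEquiv Q').symm
  obtain ⟨f3⟩ := UGT.U2.Rec.Congr.commutator_equiv f2
  exact UGT.U2.Rec.Congr.quot_center f3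

end equiv

section types

variable {ι : Type} [Fintype ι] [DecidableEq ι] {F : Type*} [Field F]

omit [Fintype ι] [DecidableEq ι] in
theorem plusTop_iff {Q : QuadraticForm F (ι → F)} : IsPlusTypeOn (⇑Q) ⊤ ↔ H955.IsPlus Q := by
  constructor
  · rintro ⟨U, -, hU0, hd⟩
    exact ⟨U, fun u hu => hU0 u hu, by rw [hd, finrank_top]⟩
  · rintro ⟨U, hU0, hd⟩
    exact ⟨U, le_top, fun u hu => hU0 u hu, by rw [finrank_top]; exact hd⟩

/-- **minus type** -/
theorem model_minus [Finite F] {Q : Type*} [Group Q] {Qf : (ι → F) → F} (hQ : IsNondegenerateQuadraticForm Qf) {m : ℕ}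
    (hm : 3 ≤ m) (hc : Fintype.card ι = 2 * m) (hminus : ¬ IsPlusTypeOn Qf ⊤) (M : Model Q (omegaGL Qf)) {a b : F}
    (hab : ∀ z₁ z₂ : F, z₁ ^ 2 + a * z₁ * z₂ + b * z₂ ^ 2 = 0 → z₁ = 0 ∧ z₂ = 0) :
    Nonempty (Q ≃* POmega F (quadFormMinus (m - 1) F a b)) := by
  obtain ⟨f⟩ := equiv_of_models M (H775.EP.modelOmega hQ (by omega))
  obtain ⟨Q', hQ', hnd⟩ := H883.Bridge.exists_quadraticForm hQ
  subst hQ'
  obtain ⟨k, rfl⟩ : ∃ k, m = k + 1 := ⟨m - 1, by omega⟩
  obtain ⟨e, he⟩ := H955.exists_minus_equiv hab k Q' hnd (by rw [Module.finrank_fintype_fun_eq_card, hc])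
    (fun h => hminus (plusTop_iff.2 h))
  obtain ⟨f2⟩ := pomega_of_equiv (Q := Q') (Q' := LieClassical.QuadForms.minusForm k F a b) e.symm (fun u => by
    rw [← he, e.apply_symm_apply])
  rw [LieClassical.QuadForms.coe_minusForm] at f2
  exact ⟨f.trans f2⟩

/-- **plus type** -/
theorem model_plus [Finite F] {Q : Type*} [Group Q] {Qf : (ι → F) → F} (hQ : IsNondegenerateQuadraticForm Qf) {m : ℕ}
    (hm : 3 ≤ m) (hc : Fintype.card ι = 2 * m) (hplus : IsPlusTypeOn Qf ⊤) (M : Model Q (omegaGL Qf)) :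
    Nonempty (Q ≃* POmega F (quadFormPlus m F)) := by
  obtain ⟨f⟩ := equiv_of_models M (H775.EP.modelOmega hQ (by omega))
  obtain ⟨Q', hQ', hnd⟩ := H883.Bridge.exists_quadraticForm hQ
  subst hQ'
  obtain ⟨e, he⟩ := H955.exists_plus_equiv m Q' hnd (by rw [Module.finrank_fintype_fun_eq_card, hc])
    (plusTop_iff.1 hplus)
  obtain ⟨f2⟩ := pomega_of_equiv (Q := Q') (Q' := LieClassical.QuadForms.plusForm m F) e.symm (fun u => by
    rw [← he, e.apply_symm_apply])
  rw [LieClassical.QuadForms.coe_plusForm] at f2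
  exact ⟨f.trans f2⟩

end types

end Cfsg.Agent.H621.EP
end

-- part: H395/EPM/Count
section
set_option linter.all false
open scoped Cfsg.Agent.FastGrp

-- part: H395/EPM/Fix
section
/-!
# Fixed points of a Sylow subgroup of prime order
-/

set_option autoImplicit false

open scoped Pointwise

namespace Cfsg.Agent.H395.EPM

open MulAction Subgroup

section

/-- subgroups of order `p` are conjugate if `p²` does not divide the order -/
theorem exists_conj_of_card {G : Type*} [Group G] [Finite G] {p : ℕ} (hp : p.Prime) (hG : ¬ p ^ 2 ∣ Nat.card G)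
    {P R : Subgroup G} (hP : Nat.card P = p) (hR : Nat.card R = p) :
    ∃ g : G, ∀ y, y ∈ R ↔ g⁻¹ * y * g ∈ P := by
  have : Fact p.Prime := ⟨hp⟩
  have key : ∀ H : Subgroup G, Nat.card H = p → ∃ S : Sylow p G, (S : Subgroup G) = H := by
    intro H hH
    have h1 : IsPGroup p H := IsPGroup.of_card (n := 1) (by rw [hH, pow_one])
    obtain ⟨S, hS⟩ := h1.exists_le_sylow
    refine ⟨S, ?_⟩
    symm
    apply Subgroup.eq_of_le_of_card_ge hS
    obtain ⟨k, hk⟩ := IsPGroup.iff_card.1 S.2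
    have h2 : k < 2 := by
      by_contra h
      push Not at h
      apply hG
      exact ((pow_dvd_pow p h).trans hk.symm.dvd).trans (Subgroup.card_subgroup_dvd_card _)
    rw [hk, hH]
    calc p ^ k ≤ p ^ 1 := Nat.pow_le_pow_right hp.pos (by omega)
      _ = p := pow_one p
  obtain ⟨S, hS⟩ := key P hP
  obtain ⟨T, hT⟩ := key R hR
  obtain ⟨g, hg⟩ := MulAction.exists_smul_eq G S T
  refine ⟨g, fun y => ?_⟩
  rw [← hT, ← hg, ← hS]
  rw [Sylow.coe_subgroup_smul, Subgroup.mem_pointwise_smul_iff_inv_smul_mem, ← map_inv, MulAut.smul_def,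
    MulAut.conj_apply, inv_inv]

variable {Q : Type*} [Group Q] [Finite Q] {A P : Subgroup Q} {p : ℕ}

/-- the fixed points of `P` on the cosets -/
def Fx (A P : Subgroup Q) : Set (Q ⧸ A) := {c | ∀ g ∈ P, g • c = c}

omit [Finite Q] in
theorem smul_eq_iff (g x : Q) : g • ((x : Q) : Q ⧸ A) = (x : Q ⧸ A) ↔ x⁻¹ * g * x ∈ A := by
  rw [MulAction.Quotient.smul_coe, smul_eq_mul, QuotientGroup.eq, ← inv_mem_iff (H := A)]
  have : ((g * x)⁻¹ * x)⁻¹ = x⁻¹ * g * x := by group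
  rw [this]

omit [Finite Q] in
theorem mem_Fx (x : Q) : ((x : Q) : Q ⧸ A) ∈ Fx A P ↔ ∀ g ∈ P, x⁻¹ * g * x ∈ A :=
  forall₂_congr fun g _ => smul_eq_iff g x

omit [Finite Q] in
theorem base_mem (hPA : P ≤ A) : ((1 : Q) : Q ⧸ A) ∈ Fx A P := by
  rw [mem_Fx]
  intro g hg
  rw [inv_one, one_mul, mul_one]
  exact hPA hg

theorem orbit_norm (hp : p.Prime) (hP : Nat.card P = p) (hPA : P ≤ A) (hA : ¬ p ^ 2 ∣ Nat.card A) :
    orbit (normalizer (P : Set Q)) ((1 : Q) : Q ⧸ A) = Fx A P := by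
  ext c
  obtain ⟨x, rfl⟩ := QuotientGroup.mk_surjective c
  constructor
  · rintro ⟨n, hn⟩
    intro g hg
    change (n : Q) • ((1 : Q) : Q ⧸ A) = (x : Q ⧸ A) at hn
    rw [← hn, ← mul_smul]
    have h1 : g * (n : Q) = n * ((n : Q)⁻¹ * g * n) := by group
    rw [h1, mul_smul]
    congr 1
    have h2 : (n : Q)⁻¹ * g * n ∈ P := by
      have h3 := (Subgroup.mem_normalizer_iff.1 (inv_mem n.2) g).1 hg
      rwa [inv_inv] at h3
    exact base_mem hPA _ h2
  · intro h
    have h' := (mem_Fx x).1 h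
    -- the conjugate of `P`
    have hR : Nat.card ((P.map (MulAut.conj x⁻¹).toMonoidHom).subgroupOf A) = p := by
      have h1 : P.map (MulAut.conj x⁻¹).toMonoidHom ≤ A := by
        rintro _ ⟨g, hg, rfl⟩
        have := h' g hg
        simpa using this
      rw [Nat.card_congr (Subgroup.subgroupOfEquivOfLe h1).toEquiv,
        ← Nat.card_congr (P.equivMapOfInjective (MulAut.conj x⁻¹).toMonoidHom (MulAut.conj x⁻¹).injective).toEquiv, hP]
    have hP' : Nat.card (P.subgroupOf A) = p := by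
      rw [Nat.card_congr (Subgroup.subgroupOfEquivOfLe hPA).toEquiv, hP]
    obtain ⟨a, ha⟩ := exists_conj_of_card hp hA hP' hR
    -- `a P a⁻¹ = x⁻¹ P x`
    have h2 : ∀ y : Q, y ∈ P → (x * a)⁻¹ * y * (x * a) ∈ P := by
      intro y hy
      have h3 : x⁻¹ * y * x ∈ A := h' y hy
      have h4 : (⟨x⁻¹ * y * x, h3⟩ : A) ∈ (P.map (MulAut.conj x⁻¹).toMonoidHom).subgroupOf A := by
        rw [Subgroup.mem_subgroupOf]
        exact ⟨y, hy, by simp⟩
      have h5 := (ha _).1 h4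
      rw [Subgroup.mem_subgroupOf] at h5
      have h6 : (((a : A)⁻¹ * ⟨x⁻¹ * y * x, h3⟩ * a : A) : Q) = (x * a)⁻¹ * y * (x * a) := by
        push_cast
        group
      rwa [h6] at h5
    have h7 : (x * a : Q)⁻¹ ∈ normalizer (P : Set Q) := by
      rw [Subgroup.mem_normalizer_iff]
      have hle : P.map (MulAut.conj (x * a : Q)⁻¹).toMonoidHom ≤ P := by
        rintro _ ⟨y, hy, rfl⟩
        have := h2 y hy
        simpa [mul_assoc] using this
      have heq : P.map (MulAut.conj (x * a : Q)⁻¹).toMonoidHom = P := by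
        apply Subgroup.eq_of_le_of_card_ge hle
        rw [← Nat.card_congr (P.equivMapOfInjective (MulAut.conj (x * a : Q)⁻¹).toMonoidHom
          (MulAut.conj (x * a : Q)⁻¹).injective).toEquiv]
      intro y
      constructor
      · intro hy
        rw [inv_inv]
        exact h2 y hy
      · intro hy
        have hy' : (x * a : Q)⁻¹ * y * (x * a : Q)⁻¹⁻¹ ∈ P := hy
        rw [← heq] at hy'
        obtain ⟨z, hz, hzz⟩ := hy'
        have h8 : (x * a : Q)⁻¹ * z * (x * a : Q)⁻¹⁻¹ = (x * a : Q)⁻¹ * y * (x * a : Q)⁻¹⁻¹ := hzz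
        have h9 : z = y := mul_left_cancel (mul_right_cancel h8)
        rw [← h9]
        exact hz
    refine ⟨⟨x * a, by simpa using inv_mem h7⟩, ?_⟩
    change (x * (a : Q)) • ((1 : Q) : Q ⧸ A) = (x : Q ⧸ A)
    rw [MulAction.Quotient.smul_coe, smul_eq_mul, mul_one, QuotientGroup.eq]
    have : (x * (a : Q))⁻¹ * x = (a : Q)⁻¹ := by group
    rw [this]
    exact inv_mem a.2

theorem fx_card (hp : p.Prime) (hP : Nat.card P = p) (hPA : P ≤ A) (hA : ¬ p ^ 2 ∣ Nat.card A) :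
    (Fx A P).ncard * Nat.card (normalizer (P : Set Q) ⊓ A : Subgroup Q) = Nat.card (normalizer (P : Set Q)) := by
  have h1 := Nat.card_congr (orbitProdStabilizerEquivGroup (normalizer (P : Set Q)) ((1 : Q) : Q ⧸ A))
  rw [Nat.card_prod, orbit_norm hp hP hPA hA] at h1
  rw [← h1]
  have h2 : (Fx A P).ncard = Nat.card (Fx A P) := rfl
  rw [h2]
  congr 1
  have h3 : ∀ g : normalizer (P : Set Q), g ∈ stabilizer (normalizer (P : Set Q)) ((1 : Q) : Q ⧸ A) ↔ (g : Q) ∈ A := by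
    intro g
    rw [mem_stabilizer_iff]
    have h4 := smul_eq_iff (A := A) (g : Q) 1
    rw [inv_one, one_mul, mul_one] at h4
    exact h4
  exact Nat.card_congr
    { toFun := fun g => ⟨⟨g.1, (Subgroup.mem_inf.1 g.2).1⟩, (h3 _).2 (Subgroup.mem_inf.1 g.2).2⟩
      invFun := fun g => ⟨g.1.1, Subgroup.mem_inf.2 ⟨g.1.2, (h3 _).1 g.2⟩⟩
      left_inv := fun g => rfl
      right_inv := fun g => rfl }

/-- congruence -/
theorem fx_mod (hp : p.Prime) (hP : Nat.card P = p) : A.index ≡ (Fx A P).ncard [MOD p] := by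
  have : Fact p.Prime := ⟨hp⟩
  have h1 : IsPGroup p P := IsPGroup.of_card (n := 1) (by rw [hP, pow_one])
  have h2 := h1.card_modEq_card_fixedPoints (Q ⧸ A)
  have h3 : Nat.card (fixedPoints P (Q ⧸ A)) = (Fx A P).ncard := by
    have h4 : (fixedPoints P (Q ⧸ A)) = Fx A P := by
      ext c
      constructor
      · intro h g hg
        exact h ⟨g, hg⟩
      · intro h g
        exact h g g.2
    rw [h4]
    rfl
  rw [h3] at h2
  exact h2

end

end Cfsg.Agent.H395.EPM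
end

-- part: H395/EPM/Count
section
/-!
# `M22` is not the stabiliser of an extremely primitive action of a group of order 9196830720
-/

set_option autoImplicit false
set_option linter.constructorNameAsVariable false

open scoped Pointwise

namespace Cfsg.Agent.H395.EPM

open Cfsg MulAction Cfsg.Agent.H284
open Cfsg.Agent.J4Type.Aut22 (D22 mem_D22_iff M22_le_D22 mem_M22_iff_D22 card_D22)

theorem card_aut {K : Type*} [Group K] (hK : Spor.IsoM22 K) : Nat.card (MulAut K) = 887040 := by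
  obtain ⟨ι, hi, hr, -⟩ := KFacts.MM.OutAut.exists_iota hK
  rw [← card_D22, ← hr]
  exact Nat.card_congr (MonoidHom.ofInjective hi).toEquiv

theorem card_22 {K : Type*} [Group K] (hK : Spor.IsoM22 K) : Nat.card K = 443520 := by
  obtain ⟨e⟩ := hK
  rw [Nat.card_congr e.toEquiv]
  exact Cfsg.Agent.SporadicA.MathieuRecog.card_M22

section

variable {Q : Type*} [Group Q] [Finite Q] {A : Subgroup Q} {Γ : Subgroup (MulAut Q)}

omit [Finite Q] in
theorem card_A [Finite A] {N : Subgroup Q} (hNA : N ≤ A) (hN : ∀ a ∈ A, ∀ n ∈ N, a * n * a⁻¹ ∈ N) (e : Spor.IsoM22 N)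
    (hC : ∀ a ∈ A, (∀ n ∈ N, a * n = n * a) → a = 1) : Nat.card A = 443520 ∨ Nat.card A = 887040 := by
  have hn : (N.subgroupOf A).Normal := by
    constructor
    intro n hn g
    rw [Subgroup.mem_subgroupOf] at hn ⊢
    exact hN g g.2 n hn
  have hiso : Spor.IsoM22 (N.subgroupOf A) := by
    obtain ⟨f⟩ := e
    exact ⟨(Subgroup.subgroupOfEquivOfLe hNA).trans f⟩
  have hinj : Function.Injective (MulAut.conjNormal (H := N.subgroupOf A)) := by
    rw [injective_iff_map_eq_one]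
    intro a ha
    apply Subtype.ext
    apply hC a a.2
    intro n hn
    have h1 := DFunLike.congr_fun ha (⟨⟨n, hNA hn⟩, hn⟩ : N.subgroupOf A)
    have h2 := congrArg (fun y : N.subgroupOf A => ((y : A) : Q)) h1
    rw [MulAut.one_apply] at h2
    have h3 : (a : Q) * n * (a : Q)⁻¹ = n := by
      have h4 := MulAut.conjNormal_apply (H := N.subgroupOf A) a (⟨⟨n, hNA hn⟩, hn⟩ : N.subgroupOf A)
      have h5 := congrArg (fun y : A => (y : Q)) h4
      exact (show (a : Q) * n * (a : Q)⁻¹ = _ from h5.symm).trans h2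
    rw [mul_inv_eq_iff_eq_mul] at h3
    exact h3
  have h1 : Nat.card A ∣ 887040 := by
    rw [← card_aut hiso]
    have h2 := Subgroup.card_subgroup_dvd_card (MulAut.conjNormal (H := N.subgroupOf A)).range
    rwa [← Nat.card_congr (MonoidHom.ofInjective hinj).toEquiv] at h2
  have h2 : 443520 ∣ Nat.card A := by
    rw [← card_22 e]
    exact Subgroup.card_dvd_of_le hNA
  obtain ⟨k, hk⟩ := h2
  rw [hk] at h1
  have h3 : k ∣ 2 := by
    have : 443520 * k ∣ 443520 * 2 := h1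
    exact Nat.dvd_of_mul_dvd_mul_left (by norm_num) this
  have h4 := Nat.le_of_dvd (by norm_num) h3
  interval_cases k
  · omega
  · left; omega
  · right; omega

/-- the hypotheses on the normalizers in `Q` -/
structure Nrm (Q : Type*) [Group Q] : Prop where
  card : Nat.card Q = 9196830720
  n5 : ∀ P : Subgroup Q, Nat.card P = 5 → Nat.card (Subgroup.normalizer (P : Set Q)) ∣ 120
  n7 : ∀ P : Subgroup Q, Nat.card P = 7 → Nat.card (Subgroup.normalizer (P : Set Q)) ∣ 42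
  n11 : ∀ P : Subgroup Q, Nat.card P = 11 → Nat.card (Subgroup.normalizer (P : Set Q)) ∣ 55

theorem fx_dvd {P : Subgroup Q} {p m : ℕ} (hp : p.Prime) (hP : Nat.card P = p) (hPA : P ≤ A)
    (hA : ¬ p ^ 2 ∣ Nat.card A) (hd : Nat.card (Subgroup.normalizer (P : Set Q)) ∣ p * m) : (Fx A P).ncard ∣ m := by
  have h1 := fx_card hp hP hPA hA
  have h2 : p ∣ Nat.card (Subgroup.normalizer (P : Set Q) ⊓ A : Subgroup Q) := by
    rw [← hP]
    exact Subgroup.card_dvd_of_le (le_inf Subgroup.le_normalizer hPA)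
  obtain ⟨k, hk⟩ := h2
  rw [hk] at h1
  rw [← h1] at hd
  have h3 : p * ((Fx A P).ncard * k) ∣ p * m := by
    rw [show p * ((Fx A P).ncard * k) = (Fx A P).ncard * (p * k) by ring]
    exact hd
  exact (Dvd.intro _ rfl).trans (Nat.dvd_of_mul_dvd_mul_left hp.pos h3)

theorem index_eq (hQ : Nrm Q) (hA : Nat.card A = 443520) : A.index = 20736 := by
  have h1 := A.card_mul_index
  rw [hA, hQ.card] at h1
  omega

/-- the case `A = M22.2` -/
theorem not_two (hQ : Nrm Q) : Nat.card A ≠ 887040 := by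
  intro hA
  have h1 := A.card_mul_index
  rw [hA, hQ.card] at h1
  have h2 : A.index = 10368 := by omega
  have : Fact (Nat.Prime 11) := ⟨by norm_num⟩
  obtain ⟨P, hP⟩ := Sylow.exists_subgroup_card_pow_prime (G := A) 11 (n := 1) (by rw [hA]; norm_num)
  have hP' : Nat.card (P.map A.subtype) = 11 := by
    rw [Nat.card_congr (P.equivMapOfInjective _ A.subtype_injective).symm.toEquiv, hP]
    norm_num
  have hPA : P.map A.subtype ≤ A := by
    rintro _ ⟨a, -, rfl⟩
    exact a.2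
  have h3 := fx_dvd (A := A) (m := 5) (by norm_num) hP' hPA (by rw [hA]; norm_num) (hQ.n11 _ hP')
  have h4 := fx_mod (A := A) (p := 11) (by norm_num) hP'
  rw [h2] at h4
  have h5 : (Fx A (P.map A.subtype)).ncard ∈ Nat.divisors 5 := Nat.mem_divisors.2 ⟨h3, by norm_num⟩
  rw [show Nat.divisors 5 = {1, 5} by decide] at h5
  simp only [Finset.mem_insert, Finset.mem_singleton] at h5
  rcases h5 with h5 | h5 <;> rw [h5] at h4 <;> exact absurd h4 (by decide)

theorem fx11 (hQ : Nrm Q) (hA : Nat.card A = 443520) {P : Subgroup Q} (hP : Nat.card P = 11) (hPA : P ≤ A) :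
    (Fx A P).ncard = 1 := by
  have h3 := fx_dvd (A := A) (m := 5) (by norm_num) hP hPA (by rw [hA]; norm_num) (hQ.n11 _ hP)
  have h4 := fx_mod (A := A) (p := 11) (by norm_num) hP
  rw [index_eq hQ hA] at h4
  have h5 : (Fx A P).ncard ∈ Nat.divisors 5 := Nat.mem_divisors.2 ⟨h3, by norm_num⟩
  rw [show Nat.divisors 5 = {1, 5} by decide] at h5
  simp only [Finset.mem_insert, Finset.mem_singleton] at h5
  rcases h5 with h5 | h5
  · exact h5
  · rw [h5] at h4
    exact absurd h4 (by decide)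

theorem fx7 (hQ : Nrm Q) (hA : Nat.card A = 443520) {P : Subgroup Q} (hP : Nat.card P = 7) (hPA : P ≤ A) :
    (Fx A P).ncard ≤ 2 := by
  have h3 := fx_dvd (A := A) (m := 6) (by norm_num) hP hPA (by rw [hA]; norm_num) (hQ.n7 _ hP)
  have h4 := fx_mod (A := A) (p := 7) (by norm_num) hP
  rw [index_eq hQ hA] at h4
  have h5 : (Fx A P).ncard ∈ Nat.divisors 6 := Nat.mem_divisors.2 ⟨h3, by norm_num⟩
  rw [show Nat.divisors 6 = {1, 2, 3, 6} by decide] at h5
  simp only [Finset.mem_insert, Finset.mem_singleton] at h5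
  rcases h5 with h5 | h5 | h5 | h5
  · omega
  · omega
  · rw [h5] at h4
    exact absurd h4 (by decide)
  · rw [h5] at h4
    exact absurd h4 (by decide)

theorem fx5 (hQ : Nrm Q) (hA : Nat.card A = 443520) {P : Subgroup Q} (hP : Nat.card P = 5) (hPA : P ≤ A) :
    (Fx A P).ncard ≤ 6 := by
  have h3 := fx_dvd (A := A) (m := 24) (by norm_num) hP hPA (by rw [hA]; norm_num) (hQ.n5 _ hP)
  have h4 := fx_mod (A := A) (p := 5) (by norm_num) hP
  rw [index_eq hQ hA] at h4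
  have h5 : (Fx A P).ncard ∈ Nat.divisors 24 := Nat.mem_divisors.2 ⟨h3, by norm_num⟩
  rw [show Nat.divisors 24 = {1, 2, 3, 4, 6, 8, 12, 24} by decide] at h5
  simp only [Finset.mem_insert, Finset.mem_singleton] at h5
  rcases h5 with h5 | h5 | h5 | h5 | h5 | h5 | h5 | h5
  · omega
  · omega
  · omega
  · omega
  · omega
  · rw [h5] at h4
    exact absurd h4 (by decide)
  · rw [h5] at h4
    exact absurd h4 (by decide)
  · rw [h5] at h4
    exact absurd h4 (by decide)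

/-- the restriction to `A` -/
def res (h : EPT A Γ) : Γ →* MulAut A where
  toFun σ :=
    { toFun := fun a => ⟨(σ : MulAut Q) a, (h.inv σ σ.2 a).2 a.2⟩
      invFun := fun a => ⟨((σ⁻¹ : Γ) : MulAut Q) a, (h.inv (σ⁻¹ : Γ) (σ⁻¹ : Γ).2 a).2 a.2⟩
      left_inv := fun a => Subtype.ext (by
        change ((σ⁻¹ : Γ) : MulAut Q) ((σ : MulAut Q) a) = a
        rw [← MulAut.mul_apply, ← Subgroup.coe_mul, inv_mul_cancel]
        rfl)
      right_inv := fun a => Subtype.ext (by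
        change (σ : MulAut Q) (((σ⁻¹ : Γ) : MulAut Q) a) = a
        rw [← MulAut.mul_apply, ← Subgroup.coe_mul, mul_inv_cancel]
        rfl)
      map_mul' := fun a b => Subtype.ext (map_mul (σ : MulAut Q) (a : Q) b) }
  map_one' := by
    ext a
    rfl
  map_mul' σ τ := by
    ext a
    rfl

omit [Finite Q] in
theorem res_inj (h : EPT A Γ) : Function.Injective (res h) := by
  rw [injective_iff_map_eq_one]
  intro σ hσ
  apply Subtype.ext
  apply h.cent σ σ.2
  intro a ha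
  have h1 := DFunLike.congr_fun hσ (⟨a, ha⟩ : A)
  exact congrArg Subtype.val h1

/-- the inner automorphism -/
def inn (h : EPT A Γ) (a : A) : Γ := ⟨MulAut.conj (a : Q), (h.conj a).2 a.2⟩

omit [Finite Q] in
theorem res_inn (h : EPT A Γ) (a : A) : res h (inn h a) = MulAut.conj a := by
  ext b
  rfl

omit [Finite Q] in
theorem inn_mul (h : EPT A Γ) (a b : A) : inn h (a * b) = inn h a * inn h b :=
  Subtype.ext (map_mul MulAut.conj (a : Q) (b : Q))

omit [Finite Q] in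
theorem inn_stab (h : EPT A Γ) (a : A) (x : Q) :
    x⁻¹ * ((inn h a : Γ) : MulAut Q) x ∈ A ↔ x⁻¹ * (a : Q) * x ∈ A := by
  change x⁻¹ * ((a : Q) * x * (a : Q)⁻¹) ∈ A ↔ _
  have h1 : x⁻¹ * ((a : Q) * x * (a : Q)⁻¹) = (x⁻¹ * (a : Q) * x) * (a : Q)⁻¹ := by group
  rw [h1]
  exact Subgroup.mul_mem_cancel_right A (inv_mem a.2)

theorem center_triv {K : Type*} [Group K] (e : Spor.IsoM22 K) (n : K) (hn : ∀ k : K, n * k = k * n) : n = 1 := by
  have hK := card_22 e
  obtain ⟨f⟩ := e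
  have hs0 : IsSimpleGroup Spor.M22 := Cfsg.Agent.SporadicA.MathieuRecog.simple_M22
  have hs : IsSimpleGroup K := f.isSimpleGroup
  have hcen : n ∈ Subgroup.center K := by
    rw [Subgroup.mem_center_iff]
    exact fun k => (hn k).symm
  rcases hs.eq_bot_or_eq_top_of_normal (Subgroup.center K) inferInstance with h14 | h14
  · rw [h14, Subgroup.mem_bot] at hcen
    exact hcen
  · exfalso
    have hab' : ∀ a b : K, a * b = b * a := by
      intro a b
      have : a ∈ Subgroup.center K := by rw [h14]; exact Subgroup.mem_top _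
      exact ((Subgroup.mem_center_iff.1 this) b).symm
    have hfin : Finite K := Nat.finite_of_card_ne_zero (by rw [hK]; norm_num)
    have hcard : (Nat.card K).Prime := by
      let _ : CommGroup K := { (inferInstance : Group K) with mul_comm := hab' }
      exact (IsSimpleGroup.prime_card (α := K))
    rw [hK] at hcard
    revert hcard
    norm_num

/-- the inner automorphisms -/
def innH (h : EPT A Γ) : A →* Γ where
  toFun := inn h
  map_one' := by
    apply res_inj h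
    rw [res_inn, map_one, map_one]
  map_mul' := inn_mul h

omit [Finite Q] in
theorem innH_inj (h : EPT A Γ) (e : Spor.IsoM22 A) : Function.Injective (innH h) := by
  rw [injective_iff_map_eq_one]
  intro a ha
  apply center_triv e
  intro k
  have h1 := res_inn h a
  have h2 : inn h a = 1 := ha
  rw [h2, map_one] at h1
  have h3 := DFunLike.congr_fun h1 k
  rw [MulAut.one_apply, MulAut.conj_apply] at h3
  exact (mul_inv_eq_iff_eq_mul.1 h3.symm)

/-- the main local statement -/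
theorem local_main (h : EPT A Γ) (hQ : Nrm Q) (e : Spor.IsoM22 A) {x : Q} (hx : x ∉ A) :
    (∃ n ∈ A, x⁻¹ * n * x ∈ A ∧ (orderOf n = 5 ∨ orderOf n = 7)) ∧
      Nat.card (orbit A ((x : Q) : Q ⧸ A)) ≤ 2576 := by
  classical
  have hA : Nat.card A = 443520 := card_22 e
  obtain ⟨ι, hi, hr, hc⟩ := KFacts.MM.OutAut.exists_iota e
  let θ : Γ →* Equiv.Perm GolayPt := ι.comp (res h)
  have hθi : Function.Injective θ := hi.comp (res_inj h)
  have hθD : ∀ σ, θ σ ∈ D22 := fun σ => by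
    rw [← hr]
    exact ⟨_, rfl⟩
  -- inner
  have hin : ∀ a : A, θ (inn h a) ∈ Spor.M22 := by
    intro a
    have h1 : MulAut.conj a ∈ (Spor.M22).comap ι := by
      rw [hc]
      exact ⟨a, rfl⟩
    change ι (res h (inn h a)) ∈ Spor.M22
    rw [res_inn]
    exact h1
  have hin' : ∀ σ : Γ, θ σ ∈ Spor.M22 → ∃ a : A, σ = inn h a := by
    intro σ hσ
    have h1 : res h σ ∈ (Spor.M22).comap ι := hσ
    rw [hc] at h1
    obtain ⟨a, ha⟩ := h1
    refine ⟨a, res_inj h ?_⟩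
    rw [res_inn]
    exact ha.symm
  have hsur : ∀ m ∈ Spor.M22, ∃ a : A, θ (inn h a) = m := by
    intro m hm
    have h1 : m ∈ ι.range := by rw [hr]; exact M22_le_D22 hm
    obtain ⟨α, rfl⟩ := h1
    have h2 : α ∈ (Spor.M22).comap ι := hm
    rw [hc] at h2
    obtain ⟨a, rfl⟩ := h2
    refine ⟨a, ?_⟩
    change ι (res h (inn h a)) = _
    rw [res_inn]
  -- the stabiliser
  let Gx : Subgroup Γ :=
    { carrier := {σ | x⁻¹ * (σ : MulAut Q) x ∈ A}
      one_mem' := by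
        change x⁻¹ * x ∈ A
        rw [inv_mul_cancel]
        exact one_mem _
      mul_mem' := by
        intro σ τ hσ hτ
        change x⁻¹ * (σ : MulAut Q) ((τ : MulAut Q) x) ∈ A
        have h1 : (σ : MulAut Q) (x⁻¹ * (τ : MulAut Q) x) ∈ A := (h.inv σ σ.2 _).2 hτ
        rw [map_mul, map_inv] at h1
        have h2 := mul_mem hσ h1
        have h3 : x⁻¹ * (σ : MulAut Q) x * (((σ : MulAut Q) x)⁻¹ * (σ : MulAut Q) ((τ : MulAut Q) x)) =
            x⁻¹ * (σ : MulAut Q) ((τ : MulAut Q) x) := by group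
        rwa [h3] at h2
      inv_mem' := by
        intro σ hσ
        have h1 : ((σ⁻¹ : Γ) : MulAut Q) (x⁻¹ * (σ : MulAut Q) x) ∈ A :=
          (h.inv _ (σ⁻¹ : Γ).2 _).2 hσ
        rw [map_mul, map_inv] at h1
        have h2 : ((σ⁻¹ : Γ) : MulAut Q) ((σ : MulAut Q) x) = x := by
          rw [← MulAut.mul_apply, ← Subgroup.coe_mul, inv_mul_cancel]
          rfl
        rw [h2] at h1
        have h3 := inv_mem h1
        rw [mul_inv_rev, inv_inv] at h3
        exact h3 }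
  have hmem : ∀ σ : Γ, σ ∈ Gx ↔ x⁻¹ * (σ : MulAut Q) x ∈ A := fun σ => Iff.rfl
  let B : Subgroup (Equiv.Perm GolayPt) := Gx.map θ
  have hB : B ≤ D22 := by
    rintro _ ⟨σ, -, rfl⟩
    exact hθD σ
  -- elements of `B ∩ M22`
  have hBM : ∀ g ∈ B, g ∈ Spor.M22 → ∃ n ∈ A, x⁻¹ * n * x ∈ A ∧ orderOf n = orderOf g := by
    rintro _ ⟨σ, hσ, rfl⟩ hg
    obtain ⟨a, rfl⟩ := hin' σ hg
    refine ⟨a, a.2, (inn_stab h a x).1 hσ, ?_⟩
    have h1 : orderOf (θ (inn h a)) = orderOf a :=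
      orderOf_injective (θ.comp (innH h)) (hθi.comp (innH_inj h e)) a
    rw [h1, Subgroup.orderOf_coe]
  have h11 : ∀ g ∈ B, g ∈ Spor.M22 → orderOf g ≠ 11 := by
    intro g hg hg2 ho
    obtain ⟨n, hn, hnx, hno⟩ := hBM g hg hg2
    rw [ho] at hno
    have hP : Nat.card (Subgroup.zpowers n) = 11 := by rw [Nat.card_zpowers, hno]
    have hPA : Subgroup.zpowers n ≤ A := by rw [Subgroup.zpowers_le]; exact hn
    have h1 := fx11 hQ hA hP hPA
    obtain ⟨c, hc⟩ := Set.ncard_eq_one.1 h1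
    have h2 : ((1 : Q) : Q ⧸ A) ∈ Fx A (Subgroup.zpowers n) := base_mem hPA
    have h3 : ((x : Q) : Q ⧸ A) ∈ Fx A (Subgroup.zpowers n) := by
      rw [mem_Fx]
      intro g hg
      obtain ⟨k, rfl⟩ := Subgroup.mem_zpowers_iff.1 hg
      have h4 : x⁻¹ * n ^ k * x = (x⁻¹ * n * x) ^ k := by
        have := (conj_zpow (a := x⁻¹) (b := n) (i := k)).symm
        simpa using this
      rw [h4]
      exact zpow_mem hnx k
    rw [hc, Set.mem_singleton_iff] at h2 h3
    rw [← h2, QuotientGroup.eq, mul_one] at h3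
    exact hx (by simpa using inv_mem h3)
  obtain ⟨s, hs, hk⟩ := orbit_struct B hB h11
  have hk' : Small s ∨ s ∈ octads ∨ s ∈ dodecads := by
    rcases hk with h1 | ⟨h1, -⟩ | ⟨h1, -⟩
    · exact Or.inl h1
    · exact Or.inr (Or.inl h1)
    · exact Or.inr (Or.inr h1)
  -- the overgroup
  let L : Subgroup (MulAut Q) := ((stabilizer (Equiv.Perm GolayPt) s).comap θ).map Γ.subtype
  have hL := h.two x hx L (by
    rintro _ ⟨σ, -, rfl⟩
    exact σ.2) (by
    intro σ hσ hσx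
    refine ⟨⟨σ, hσ⟩, ?_, rfl⟩
    change θ ⟨σ, hσ⟩ • s = s
    exact hs _ ⟨⟨σ, hσ⟩, hσx, rfl⟩)
  have hst : ∀ a : A, θ (inn h a) • s = s → x⁻¹ * (a : Q) * x ∈ A := by
    intro a ha
    rcases hL with h1 | h1
    · exfalso
      obtain ⟨g, hg, hgs⟩ := moves hk'
      obtain ⟨b, hb⟩ := hsur g hg
      have h2 : ((inn h b : Γ) : MulAut Q) ∈ L := by rw [h1]; exact (inn h b).2
      obtain ⟨σ, hσ, hσ'⟩ := h2
      have h3 : σ = inn h b := Subtype.ext hσ'
      rw [h3] at hσ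
      apply hgs
      rw [← hb]
      exact hσ
    · rw [← inn_stab h]
      exact h1 _ ⟨inn h a, ha, rfl⟩
  -- comparison of orbits
  have horb : Nat.card (orbit A ((x : Q) : Q ⧸ A)) ≤ Nat.card (orbit Spor.M22 s) := by
    have hch : ∀ t ∈ orbit Spor.M22 s, ∃ a : A, θ (inn h a) • s = t := by
      rintro _ ⟨m, rfl⟩
      obtain ⟨a, ha⟩ := hsur m m.2
      exact ⟨a, by rw [ha]; rfl⟩
    choose f hf using hch
    let F : orbit Spor.M22 s → orbit A ((x : Q) : Q ⧸ A) := fun t => ⟨f t.1 t.2 • ((x : Q) : Q ⧸ A), ⟨_, rfl⟩⟩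
    apply Nat.card_le_card_of_surjective F
    rintro ⟨_, ⟨a, rfl⟩⟩
    have ht : θ (inn h a) • s ∈ orbit Spor.M22 s := ⟨⟨θ (inn h a), hin a⟩, rfl⟩
    refine ⟨⟨_, ht⟩, Subtype.ext ?_⟩
    have h1 := hf _ ht
    set b := f _ ht with hb
    have h2 : θ (inn h (a⁻¹ * b)) • s = s := by
      have h3 : inn h (a⁻¹ * b) = (inn h a)⁻¹ * inn h b := by
        rw [eq_inv_mul_iff_mul_eq, ← inn_mul, mul_inv_cancel_left]
      rw [h3, map_mul, map_inv, mul_smul, h1, inv_smul_smul]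
    have h4 := hst _ h2
    change (b : Q) • ((x : Q) : Q ⧸ A) = (a : Q) • ((x : Q) : Q ⧸ A)
    have h5 := (smul_eq_iff (A := A) ((a⁻¹ * b : A) : Q) x).2 h4
    rw [Subgroup.coe_mul, Subgroup.coe_inv, mul_smul, inv_smul_eq_iff] at h5
    exact h5
  refine ⟨?_, horb.trans (orb_big hk')⟩
  rcases hk with h1 | ⟨-, g, hg, hg2, ho⟩ | ⟨-, g, hg, hg2, ho⟩
  · -- small
    have h2 := horb.trans (orb_small h1)
    have h3 : Nat.card (orbit A ((x : Q) : Q ⧸ A)) * Nat.card (stabilizer A ((x : Q) : Q ⧸ A)) = 443520 := by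
      rw [← hA, ← Nat.card_prod]
      exact Nat.card_congr (orbitProdStabilizerEquivGroup A ((x : Q) : Q ⧸ A))
    have key : ∀ p : ℕ, p.Prime → p ∣ Nat.card (stabilizer A ((x : Q) : Q ⧸ A)) →
        ∃ n ∈ A, x⁻¹ * n * x ∈ A ∧ orderOf n = p := by
      intro p hp hd
      have : Fact p.Prime := ⟨hp⟩
      obtain ⟨y, hy⟩ := exists_prime_orderOf_dvd_card' (G := stabilizer A ((x : Q) : Q ⧸ A)) p hd
      refine ⟨((y : A) : Q), (y : A).2, ?_, by rw [Subgroup.orderOf_coe, Subgroup.orderOf_coe, hy]⟩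
      exact (smul_eq_iff (A := A) ((y : A) : Q) x).1 y.2
    by_cases h5 : 5 ∣ Nat.card (stabilizer A ((x : Q) : Q ⧸ A))
    · obtain ⟨n, hn, hnx, hno⟩ := key 5 (by norm_num) h5
      exact ⟨n, hn, hnx, Or.inl hno⟩
    by_cases h7 : 7 ∣ Nat.card (stabilizer A ((x : Q) : Q ⧸ A))
    · obtain ⟨n, hn, hnx, hno⟩ := key 7 (by norm_num) h7
      exact ⟨n, hn, hnx, Or.inr hno⟩
    by_cases h11' : 11 ∣ Nat.card (stabilizer A ((x : Q) : Q ⧸ A))
    · exfalso
      obtain ⟨n, hn, hnx, hno⟩ := key 11 (by norm_num) h11'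
      have h6 : θ (inn h ⟨n, hn⟩) ∈ B := ⟨_, (inn_stab h ⟨n, hn⟩ x).2 hnx, rfl⟩
      have h8 : orderOf (θ (inn h ⟨n, hn⟩)) = 11 := by
        have h1 : orderOf (θ (inn h ⟨n, hn⟩)) = orderOf (⟨n, hn⟩ : A) :=
          orderOf_injective (θ.comp (innH h)) (hθi.comp (innH_inj h e)) _
        rw [h1, Subgroup.orderOf_mk, hno]
      exact h11 _ h6 (hin _) h8
    · exfalso
      have hcop : ∀ p : ℕ, p.Prime → p ∣ 443520 → ¬ p ∣ Nat.card (stabilizer A ((x : Q) : Q ⧸ A)) →
          p ∣ Nat.card (orbit A ((x : Q) : Q ⧸ A)) := by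
        intro p hp hd hn
        rw [← h3] at hd
        exact (hp.dvd_mul.1 hd).resolve_right hn
      have a5 := hcop 5 (by norm_num) (by norm_num) h5
      have a7 := hcop 7 (by norm_num) (by norm_num) h7
      have a11 := hcop 11 (by norm_num) (by norm_num) h11'
      have a35 : 5 * 7 ∣ Nat.card (orbit A ((x : Q) : Q ⧸ A)) := Nat.Coprime.mul_dvd_of_dvd_of_dvd (by norm_num) a5 a7
      have a385 : 5 * 7 * 11 ∣ Nat.card (orbit A ((x : Q) : Q ⧸ A)) :=
        Nat.Coprime.mul_dvd_of_dvd_of_dvd (by norm_num) a35 a11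
      have hpos : 0 < Nat.card (orbit A ((x : Q) : Q ⧸ A)) := by
        rcases Nat.eq_zero_or_pos (Nat.card (orbit A ((x : Q) : Q ⧸ A))) with h0 | h0
        · rw [h0] at h3; omega
        · exact h0
      have := Nat.le_of_dvd hpos a385
      omega
  · obtain ⟨n, hn, hnx, hno⟩ := hBM g hg hg2
    exact ⟨n, hn, hnx, Or.inr (hno.trans ho)⟩
  · obtain ⟨n, hn, hnx, hno⟩ := hBM g hg hg2
    exact ⟨n, hn, hnx, Or.inl (hno.trans ho)⟩

end

end Cfsg.Agent.H395.EPM
end
end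

-- part: H568/EP/Num
section
set_option linter.all false
open scoped Cfsg.Agent.FastGrp

/-!
# S3499: lower bounds for the order polynomials (helper568)
-/

set_option autoImplicit false

namespace Cfsg.Agent.H568.EP

open Cfsg.Agent.OrdDiv

theorem prB_succ (q m : ℕ) : prB q (m + 1) = prB q m * (q ^ (2 * (m + 1)) - 1) := by
  unfold prB
  rw [List.range_succ, List.map_append, List.prod_append]
  simp

theorem prB_aux {q : ℕ} (hq : 2 ≤ q) (m : ℕ) :
    q ^ (m * (m + 1)) * (2 * q ^ (2 * m) + 1) ≤ 3 * prB q m * q ^ (2 * m) := by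
  induction m with
  | zero => simp [prB]
  | succ m ih =>
    rw [prB_succ]
    have e1 : q ^ ((m + 1) * (m + 1 + 1)) = q ^ (m * (m + 1)) * (q ^ (2 * m) * q ^ 2) := by
      rw [← pow_add, ← pow_add]; congr 1; ring
    have e2 : q ^ (2 * (m + 1)) = q ^ (2 * m) * q ^ 2 := by rw [← pow_add]; congr 1
    rw [e1, e2]
    have hX : 1 ≤ q ^ (2 * m) := Nat.one_le_pow _ _ (by omega)
    have hY : 4 ≤ q ^ 2 := by nlinarith
    generalize q ^ (2 * m) = X at *
    generalize q ^ 2 = Y at *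
    generalize q ^ (m * (m + 1)) = R at *
    generalize prB q m = P at *
    obtain ⟨Z, hZ⟩ : ∃ Z, X * Y = Z + 1 := ⟨X * Y - 1, by
      have : 1 ≤ X * Y := Nat.one_le_iff_ne_zero.2 (Nat.mul_ne_zero (by omega) (by omega))
      omega⟩
    rw [hZ, Nat.add_sub_cancel]
    -- R (2 (Z+1) + 1) <= 3 P Z
    have key : R * (2 * (Z + 1) + 1) ≤ 3 * P * Z := by
      have h1 : X * (R * (2 * (Z + 1) + 1)) ≤ X * (3 * P * Z) := by
        have h2 : R * (2 * X + 1) * Z ≤ 3 * P * X * Z := Nat.mul_le_mul_right _ ih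
        have h3 : X * (2 * (Z + 1) + 1) ≤ (2 * X + 1) * Z := by
          have h4 : 3 * X ≤ Z := by
            have h5 : X * 4 ≤ X * Y := Nat.mul_le_mul_left _ hY
            omega
          calc X * (2 * (Z + 1) + 1) = 2 * X * Z + 3 * X := by ring
            _ ≤ 2 * X * Z + Z := Nat.add_le_add_left h4 _
            _ = (2 * X + 1) * Z := by ring
        calc X * (R * (2 * (Z + 1) + 1)) = R * (X * (2 * (Z + 1) + 1)) := by ring
          _ ≤ R * ((2 * X + 1) * Z) := Nat.mul_le_mul_left _ h3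
          _ = R * (2 * X + 1) * Z := by ring
          _ ≤ 3 * P * X * Z := h2
          _ = X * (3 * P * Z) := by ring
      exact Nat.le_of_mul_le_mul_left h1 (by omega)
    calc R * (Z + 1) * (2 * (Z + 1) + 1) = R * (2 * (Z + 1) + 1) * (Z + 1) := by ring
      _ ≤ 3 * P * Z * (Z + 1) := Nat.mul_le_mul_right _ key
      _ = 3 * (P * Z) * (Z + 1) := by ring

theorem prB_ge {q : ℕ} (hq : 2 ≤ q) (m : ℕ) : 2 * q ^ (m * (m + 1)) ≤ 3 * prB q m := by
  have h := prB_aux hq m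
  have hX : 0 < q ^ (2 * m) := Nat.pow_pos (by omega)
  refine Nat.le_of_mul_le_mul_right ?_ hX
  refine le_trans ?_ h
  calc 2 * q ^ (m * (m + 1)) * q ^ (2 * m) = q ^ (m * (m + 1)) * (2 * q ^ (2 * m)) := by ring
    _ ≤ q ^ (m * (m + 1)) * (2 * q ^ (2 * m) + 1) := Nat.mul_le_mul_left _ (Nat.le_succ _)

end Cfsg.Agent.H568.EP

private theorem dce_81a4eadd4f05 : _root_.True := by
  try have : _root_.True := by simp only [_root_.Cfsg.Agent.OrdDiv.prB.eq_1]
  exact _root_.True.intro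
end

-- part: H568/EP/Bound
section
prune_inst 0x302041407c2210000000009003002024700001900020000031e00502090f5300804009004e800c00106e328018000000001000d0000000000a00300000020020802a1004807c0f04280001803007180c00000000000000000000000000041004000000000
set_option linter.all false
open scoped Cfsg.Agent.FastGrp

-- part: H568/EP/NumB
section
/-!
# S3499: sharper lower bounds for the order polynomials of `GL_n(q)` and `GU_n(q)` (helper568)
-/

set_option autoImplicit false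

namespace Cfsg.Agent.H568.EP

open Cfsg.Agent.OrdDiv

/-- `∏_{i ≤ n} (q ^ i - 1)` -/
def prG (q n : ℕ) : ℕ := ∏ i ∈ Finset.range n, (q ^ (i + 1) - 1)

theorem glN_eq (q n : ℕ) : glN n q = q ^ (∑ i ∈ Finset.range n, i) * prG q n := by
  unfold glN prG
  rw [prod_list, ← Finset.prod_pow_eq_pow_sum, ← Finset.prod_range_reflect (fun i => q ^ (i + 1) - 1) n,
    ← Finset.prod_mul_distrib]
  refine Finset.prod_congr rfl fun i hi => ?_
  rw [Finset.mem_range] at hi
  rw [Nat.mul_sub, mul_one, ← pow_add]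
  congr 2
  omega

theorem prG_aux {q : ℕ} (hq : 2 ≤ q) (n : ℕ) :
    q ^ (∑ i ∈ Finset.range (n + 2), i) * ((q - 1) * ((q - 1) * q ^ (n + 1) + q)) ≤ prG q (n + 1) * q ^ (n + 1) * q ^ 2 := by
  induction n with
  | zero =>
    simp only [prG, Finset.sum_range_succ, Finset.range_zero, Finset.sum_empty, Finset.prod_range_succ, Finset.prod_empty]
    obtain ⟨d, rfl⟩ : ∃ d, q = d + 1 := ⟨q - 1, by omega⟩
    simp only [Nat.add_sub_cancel, zero_add, pow_one, one_mul, pow_zero]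
    apply le_of_eq; ring
  | succ n ih =>
    have e1 : prG q (n + 1 + 1) = prG q (n + 1) * (q ^ (n + 1) * q - 1) := by
      unfold prG
      rw [Finset.prod_range_succ _ (n + 1), ← pow_succ]
    have e2 : q ^ (∑ i ∈ Finset.range (n + 1 + 2), i) = q ^ (∑ i ∈ Finset.range (n + 2), i) * (q ^ (n + 1) * q) := by
      rw [Finset.sum_range_succ _ (n + 2), pow_add, ← pow_succ]
    rw [e1, e2, pow_succ q (n + 1)]
    have hX : q ≤ q ^ (n + 1) := Nat.le_self_pow (by omega) q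
    generalize q ^ (n + 1) = X at *
    generalize q ^ (∑ i ∈ Finset.range (n + 2), i) = R at *
    generalize prG q (n + 1) = G at *
    obtain ⟨D, rfl⟩ : ∃ D, q = D + 1 := ⟨q - 1, by omega⟩
    simp only [Nat.add_sub_cancel] at *
    have hD : 1 ≤ D := by omega
    obtain ⟨Z, hZ⟩ : ∃ Z, X * (D + 1) = Z + 1 := ⟨X * (D + 1) - 1, by
      have : 1 ≤ X * (D + 1) := Nat.one_le_iff_ne_zero.2 (Nat.mul_ne_zero (by omega) (by omega))
      omega⟩
    rw [hZ, Nat.add_sub_cancel]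
    -- divide by `Z + 1`
    have key : R * (D * (D * (Z + 1) + (D + 1))) ≤ G * Z * (D + 1) ^ 2 := by
      have h1 : X * (R * (D * (D * (Z + 1) + (D + 1)))) ≤ X * (G * Z * (D + 1) ^ 2) := by
        have h2 : R * (D * (D * X + (D + 1))) * Z ≤ G * X * (D + 1) ^ 2 * Z := Nat.mul_le_mul_right _ ih
        have h3 : X * (D * (Z + 1) + (D + 1)) ≤ (D * X + (D + 1)) * Z := by
          -- `D X + X (D + 1) ≤ (D + 1) Z`, i.e. `(D + 1) (Z + 1)`
          have h4 : D * X + X * (D + 1) ≤ (D + 1) * Z := by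
            have h5 : (D + 1) * (Z + 1) = X * (D + 1) * (D + 1) := by rw [← hZ]; ring
            have h6 : D * X + X * (D + 1) + (D + 1) ≤ X * (D + 1) * (D + 1) := by nlinarith only [hq, hX, hZ]
            have h7 : (D + 1) * (Z + 1) = (D + 1) * Z + (D + 1) := by ring
            omega
          calc X * (D * (Z + 1) + (D + 1)) = D * X * Z + (D * X + X * (D + 1)) := by ring
            _ ≤ D * X * Z + (D + 1) * Z := Nat.add_le_add_left h4 _
            _ = (D * X + (D + 1)) * Z := by ring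
        calc X * (R * (D * (D * (Z + 1) + (D + 1)))) = R * D * (X * (D * (Z + 1) + (D + 1))) := by ring
          _ ≤ R * D * ((D * X + (D + 1)) * Z) := Nat.mul_le_mul_left _ h3
          _ = R * (D * (D * X + (D + 1))) * Z := by ring
          _ ≤ G * X * (D + 1) ^ 2 * Z := h2
          _ = X * (G * Z * (D + 1) ^ 2) := by ring
      exact Nat.le_of_mul_le_mul_left h1 (by omega)
    calc R * (Z + 1) * (D * (D * (Z + 1) + (D + 1))) = R * (D * (D * (Z + 1) + (D + 1))) * (Z + 1) := by ring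
      _ ≤ G * Z * (D + 1) ^ 2 * (Z + 1) := Nat.mul_le_mul_right _ key
      _ = G * Z * (Z + 1) * (D + 1) ^ 2 := by ring

theorem prG_ge {q : ℕ} (hq : 2 ≤ q) {n : ℕ} (hn : 1 ≤ n) :
    q ^ (∑ i ∈ Finset.range (n + 1), i) * (q - 1) ^ 2 ≤ prG q n * q ^ 2 := by
  obtain ⟨k, rfl⟩ := Nat.exists_eq_add_of_le' hn
  have h := prG_aux hq k
  have hX : 0 < q ^ (k + 1) := Nat.pow_pos (by omega)
  refine Nat.le_of_mul_le_mul_right ?_ hX
  calc q ^ (∑ i ∈ Finset.range (k + 1 + 1), i) * (q - 1) ^ 2 * q ^ (k + 1)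
      = q ^ (∑ i ∈ Finset.range (k + 2), i) * ((q - 1) * ((q - 1) * q ^ (k + 1))) := by ring
    _ ≤ q ^ (∑ i ∈ Finset.range (k + 2), i) * ((q - 1) * ((q - 1) * q ^ (k + 1) + q)) :=
        Nat.mul_le_mul_left _ (Nat.mul_le_mul_left _ (Nat.le_add_right _ _))
    _ ≤ prG q (k + 1) * q ^ (k + 1) * q ^ 2 := h
    _ = prG q (k + 1) * q ^ 2 * q ^ (k + 1) := by ring

/-! ### unitary -/

theorem prU_even (q m : ℕ) : prU q (2 * m + 3) = prU q (2 * m + 2) * (q ^ (2 * m + 3) + 1) := by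
  unfold prU
  rw [List.range_succ, List.map_append, List.prod_append]
  have : (2 * m + 2) % 2 = 0 := by omega
  simp only [this, _root_.Nat.beq_eq, _root_.List.map_cons, ↓ _root_.reduceIte, _root_.List.map_nil, _root_.List.prod_cons, _root_.List.prod_nil, _root_.mul_one]

theorem prU_odd (q m : ℕ) : prU q (2 * m + 4) = prU q (2 * m + 3) * (q ^ (2 * m + 4) - 1) := by
  unfold prU
  rw [List.range_succ, List.map_append, List.prod_append]
  have : (2 * m + 3) % 2 = 1 := by omega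
  simp only [this, _root_.Nat.beq_eq, _root_.List.map_cons, _root_.one_ne_zero, ↓ _root_.reduceIte, _root_.List.map_nil, _root_.List.prod_cons, _root_.List.prod_nil, _root_.mul_one]

theorem prU_aux {q : ℕ} (hq : 2 ≤ q) (m : ℕ) : (q + 1) ^ 2 * q ^ (2 * m ^ 2 + 5 * m) ≤ prU q (2 * m + 2) := by
  induction m with
  | zero =>
    have : prU q (2 * 0 + 2) = (q + 1) * (q ^ 2 - 1) := by
      simp only [prU, List.range_succ, _root_.Nat.beq_eq, _root_.MulZeroClass.mul_zero, _root_.zero_add, _root_.List.range_zero, _root_.List.nil_append, _root_.List.cons_append, _root_.List.map_cons, _root_.Nat.zero_mod, ↓ _root_.reduceIte, _root_.pow_one, _root_.Nat.mod_succ, _root_.one_ne_zero, _root_.Nat.reduceAdd, _root_.List.map_nil, _root_.List.prod_cons, _root_.List.prod_nil, _root_.mul_one]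
    rw [this]
    obtain ⟨d, rfl⟩ : ∃ d, q = d + 2 := ⟨q - 2, by omega⟩
    have : (d + 2) ^ 2 - 1 = (d + 3) * (d + 1) := by
      have : (d + 2) ^ 2 = (d + 3) * (d + 1) + 1 := by ring
      omega
    rw [this]
    have : (d + 2 + 1) ^ 2 * (d + 2) ^ (2 * 0 ^ 2 + 5 * 0) = (d + 3) * (d + 3) := by ring
    rw [this]
    nlinarith only []
  | succ m ih =>
    rw [show 2 * (m + 1) + 2 = 2 * m + 4 by ring, prU_odd, prU_even]
    have h1 : q ^ (4 * m + 7) ≤ (q ^ (2 * m + 3) + 1) * (q ^ (2 * m + 4) - 1) := by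
      have e1 : q ^ (2 * m + 4) = q * q ^ (2 * m + 3) := pow_succ' q _
      have e2 : q ^ (4 * m + 7) = q ^ (2 * m + 3) * (q * q ^ (2 * m + 3)) := by
        rw [← e1, ← pow_add]; congr 1; ring
      rw [e1, e2]
      have hX : 1 ≤ q ^ (2 * m + 3) := Nat.one_le_pow _ _ (by omega)
      generalize q ^ (2 * m + 3) = X at *
      obtain ⟨Z, hZ⟩ : ∃ Z, q * X = Z + 1 := ⟨q * X - 1, by
        have : 1 ≤ q * X := Nat.one_le_iff_ne_zero.2 (Nat.mul_ne_zero (by omega) (by omega))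
        omega⟩
      rw [hZ, Nat.add_sub_cancel]
      have : X ≤ Z := by nlinarith only [hq, hZ]
      linarith only [this]
    have e3 : q ^ (2 * (m + 1) ^ 2 + 5 * (m + 1)) = q ^ (2 * m ^ 2 + 5 * m) * q ^ (4 * m + 7) := by
      rw [← pow_add]; congr 1; ring
    rw [e3, ← mul_assoc, mul_assoc (prU q (2 * m + 2))]
    exact Nat.mul_le_mul ih h1

theorem prU_ge' {q : ℕ} (hq : 2 ≤ q) {n : ℕ} (hn : 2 ≤ n) :
    (q + 1) ^ 2 * q ^ (∑ i ∈ Finset.range (n + 1), i) ≤ prU q n * q ^ 3 := by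
  have hsum : ∀ m : ℕ, ∑ i ∈ Finset.range (2 * m + 2 + 1), i = 2 * m ^ 2 + 5 * m + 3 := by
    intro m
    rw [Finset.sum_range_id]
    have : (2 * m + 2 + 1) * (2 * m + 2 + 1 - 1) = (2 * m ^ 2 + 5 * m + 3) * 2 := by
      rw [Nat.add_sub_cancel]; ring
    rw [this, Nat.mul_div_cancel _ (by norm_num)]
  rcases Nat.even_or_odd' n with ⟨k, rfl | rfl⟩
  · obtain ⟨m, rfl⟩ : ∃ m, k = m + 1 := ⟨k - 1, by omega⟩
    rw [show 2 * (m + 1) = 2 * m + 2 by ring, hsum, pow_add, ← mul_assoc]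
    exact Nat.mul_le_mul_right _ (prU_aux hq m)
  · obtain ⟨m, rfl⟩ : ∃ m, k = m + 1 := ⟨k - 1, by omega⟩
    rw [show 2 * (m + 1) + 1 = 2 * m + 3 by ring, Finset.sum_range_succ, show 2 * m + 3 = 2 * m + 2 + 1 by ring, hsum,
      show 2 * m + 2 + 1 = 2 * m + 3 by ring, prU_even]
    have h1 := prU_aux hq m
    calc (q + 1) ^ 2 * q ^ (2 * m ^ 2 + 5 * m + 3 + (2 * m + 3))
        = ((q + 1) ^ 2 * q ^ (2 * m ^ 2 + 5 * m)) * q ^ (2 * m + 3) * q ^ 3 := by
          rw [pow_add, pow_add]; ring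
      _ ≤ prU q (2 * m + 2) * (q ^ (2 * m + 3) + 1) * q ^ 3 :=
          Nat.mul_le_mul_right _ (Nat.mul_le_mul h1 (Nat.le_succ _))

end Cfsg.Agent.H568.EP
end

-- part: H568/EP/Bound
section
/-!
# S3499: lower bounds for the orders of the classical groups (helper568)
-/

set_option autoImplicit false

namespace Cfsg.Agent.H568.EP

open Cfsg Cfsg.Agent.OrdDiv Cfsg.Agent.H436

universe u
variable {Q : Type u} [Group Q]

theorem sum_range_pow {q n : ℕ} : q ^ (∑ i ∈ Finset.range n, i) * q ^ (∑ i ∈ Finset.range (n + 1), i) = q ^ (n ^ 2) := by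
  rw [Finset.sum_range_succ, ← pow_add]
  congr 1
  have := Finset.sum_range_id_mul_two n
  rcases n with _ | n
  · simp
  · rw [Nat.add_sub_cancel] at this
    linarith only [this]

theorem psl_ge {n q : ℕ} (h : IsNamed (.psl n q) Q) : q ^ (n ^ 2 - 2) ≤ Nat.card Q := by
  have hn : 2 ≤ n := h.cond.1
  have hq : 2 ≤ q := h.cond.2.2.two_le
  have h1 : (Nat.gcd n (q - 1) * (q - 1)) * Nat.card Q = glN n q := h.eq
  have h2 := prG_ge hq (n := n) (by omega)
  have h3 : Nat.gcd n (q - 1) * (q - 1) ≤ (q - 1) ^ 2 := by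
    rw [sq]
    exact Nat.mul_le_mul_right _ (Nat.gcd_le_right _ (by omega))
  have hD : 0 < (q - 1) ^ 2 := Nat.pow_pos (by omega)
  have h4 : q ^ (n ^ 2) = q ^ (n ^ 2 - 2) * q ^ 2 := by
    rw [← pow_add]; congr 1
    have : 2 ≤ n ^ 2 := by nlinarith only [hn]
    omega
  have h5 : (q ^ (n ^ 2 - 2) * q ^ 2) * (q - 1) ^ 2 ≤ (Nat.card Q * q ^ 2) * (q - 1) ^ 2 := by
    rw [← h4, ← sum_range_pow]
    calc q ^ (∑ i ∈ Finset.range n, i) * q ^ (∑ i ∈ Finset.range (n + 1), i) * (q - 1) ^ 2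
        = q ^ (∑ i ∈ Finset.range n, i) * (q ^ (∑ i ∈ Finset.range (n + 1), i) * (q - 1) ^ 2) := by ring
      _ ≤ q ^ (∑ i ∈ Finset.range n, i) * (prG q n * q ^ 2) := Nat.mul_le_mul_left _ h2
      _ = glN n q * q ^ 2 := by rw [glN_eq]; ring
      _ = (Nat.gcd n (q - 1) * (q - 1)) * Nat.card Q * q ^ 2 := by rw [h1]
      _ ≤ (q - 1) ^ 2 * Nat.card Q * q ^ 2 := Nat.mul_le_mul_right _ (Nat.mul_le_mul_right _ h3)
      _ = (Nat.card Q * q ^ 2) * (q - 1) ^ 2 := by ring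
  exact Nat.le_of_mul_le_mul_right (Nat.le_of_mul_le_mul_right h5 hD) (Nat.pow_pos (by omega))

theorem psu_ge {n q : ℕ} (h : IsNamed (.psu n q) Q) : q ^ (n ^ 2 - 3) ≤ Nat.card Q := by
  have hn : 3 ≤ n := h.cond.1
  have hq : 2 ≤ q := h.cond.2.2.two_le
  have h1 : (Nat.gcd n (q + 1) * (q + 1)) * Nat.card Q = q ^ (n * (n - 1) / 2) * prU q n := h.eq
  rw [← Finset.sum_range_id] at h1
  have h2 := prU_ge' hq (n := n) (by omega)
  have h3 : Nat.gcd n (q + 1) * (q + 1) ≤ (q + 1) ^ 2 := by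
    rw [sq]
    exact Nat.mul_le_mul_right _ (Nat.gcd_le_right _ (by omega))
  have hD : 0 < (q + 1) ^ 2 := Nat.pow_pos (by omega)
  have h4 : q ^ (n ^ 2) = q ^ (n ^ 2 - 3) * q ^ 3 := by
    rw [← pow_add]; congr 1
    have : 3 ≤ n ^ 2 := by nlinarith only [hn]
    omega
  have h5 : (q ^ (n ^ 2 - 3) * q ^ 3) * (q + 1) ^ 2 ≤ (Nat.card Q * q ^ 3) * (q + 1) ^ 2 := by
    rw [← h4, ← sum_range_pow]
    calc q ^ (∑ i ∈ Finset.range n, i) * q ^ (∑ i ∈ Finset.range (n + 1), i) * (q + 1) ^ 2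
        = q ^ (∑ i ∈ Finset.range n, i) * ((q + 1) ^ 2 * q ^ (∑ i ∈ Finset.range (n + 1), i)) := by ring
      _ ≤ q ^ (∑ i ∈ Finset.range n, i) * (prU q n * q ^ 3) := Nat.mul_le_mul_left _ h2
      _ = q ^ (∑ i ∈ Finset.range n, i) * prU q n * q ^ 3 := by ring
      _ = (Nat.gcd n (q + 1) * (q + 1)) * Nat.card Q * q ^ 3 := by rw [h1]
      _ ≤ (q + 1) ^ 2 * Nat.card Q * q ^ 3 := Nat.mul_le_mul_right _ (Nat.mul_le_mul_right _ h3)
      _ = (Nat.card Q * q ^ 3) * (q + 1) ^ 2 := by ring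
  exact Nat.le_of_mul_le_mul_right (Nat.le_of_mul_le_mul_right h5 hD) (Nat.pow_pos (by omega))

theorem psp_ge {k q : ℕ} (h : IsNamed (.psp k q) Q) : q ^ (k * (2 * k + 1)) ≤ 3 * Nat.card Q := by
  have hq : 2 ≤ q := h.cond.2.2.two_le
  have h1 : Nat.gcd 2 (q - 1) * Nat.card Q = q ^ (k ^ 2) * prB q k := h.eq
  have h2 := prB_ge hq k
  have h3 : Nat.gcd 2 (q - 1) ≤ 2 := Nat.gcd_le_left _ (by norm_num)
  have h4 : 2 * q ^ (k * (2 * k + 1)) ≤ 2 * (3 * Nat.card Q) := by
    calc 2 * q ^ (k * (2 * k + 1)) = q ^ (k ^ 2) * (2 * q ^ (k * (k + 1))) := by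
          rw [mul_left_comm, ← pow_add]; congr 2; ring
      _ ≤ q ^ (k ^ 2) * (3 * prB q k) := Nat.mul_le_mul_left _ h2
      _ = 3 * (q ^ (k ^ 2) * prB q k) := by ring
      _ = 3 * (Nat.gcd 2 (q - 1) * Nat.card Q) := by rw [h1]
      _ ≤ 3 * (2 * Nat.card Q) := Nat.mul_le_mul_left _ (Nat.mul_le_mul_right _ h3)
      _ = 2 * (3 * Nat.card Q) := by ring
  omega

theorem oodd_ge {k q : ℕ} (h : IsNamed (.oodd k q) Q) : q ^ (k * (2 * k + 1)) ≤ 3 * Nat.card Q := by
  have hq : 2 ≤ q := h.cond.2.2.two_le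
  have h1 : 2 * Nat.card Q = q ^ (k ^ 2) * prB q k := h.eq
  have h2 := prB_ge hq k
  have h4 : 2 * q ^ (k * (2 * k + 1)) ≤ 2 * (3 * Nat.card Q) := by
    calc 2 * q ^ (k * (2 * k + 1)) = q ^ (k ^ 2) * (2 * q ^ (k * (k + 1))) := by
          rw [mul_left_comm, ← pow_add]; congr 2; ring
      _ ≤ q ^ (k ^ 2) * (3 * prB q k) := Nat.mul_le_mul_left _ h2
      _ = 3 * (q ^ (k ^ 2) * prB q k) := by ring
      _ = 2 * (3 * Nat.card Q) := by rw [← h1]; ring
  omega

theorem oplus_aux {k q : ℕ} (h : IsNamed (.oplus k q) Q) :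
    q ^ (k * (2 * k - 1)) ≤ 2 * (Nat.gcd 4 (q ^ k - 1) * Nat.card Q) := by
  have hk : 4 ≤ k := h.cond.1
  have hq : 2 ≤ q := h.cond.2.two_le
  have h1 : Nat.gcd 4 (q ^ k - 1) * Nat.card Q = q ^ (k * (k - 1)) * ((q ^ k - 1) * prB q (k - 1)) := h.eq
  have h2 := prB_ge hq (k - 1)
  have h3 : 3 * q ^ k ≤ 4 * (q ^ k - 1) := by
    have : 2 ^ 4 ≤ q ^ k := (Nat.pow_le_pow_left hq 4).trans (Nat.pow_le_pow_right (by omega) hk)
    omega
  obtain ⟨j, rfl⟩ : ∃ j, k = j + 1 := ⟨k - 1, by omega⟩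
  rw [h1]
  have e1 : j + 1 - 1 = j := by omega
  rw [e1] at h2 ⊢
  have h4 : 6 * q ^ ((j + 1) * (2 * (j + 1) - 1)) ≤ 6 * (2 * (q ^ ((j + 1) * j) * ((q ^ (j + 1) - 1) * prB q j))) := by
    calc 6 * q ^ ((j + 1) * (2 * (j + 1) - 1)) = q ^ ((j + 1) * j) * ((3 * q ^ (j + 1)) * (2 * q ^ (j * (j + 1)))) := by
          have : 2 * (j + 1) - 1 = 2 * j + 1 := by omega
          rw [this, show (j + 1) * (2 * j + 1) = (j + 1) * j + ((j + 1) + j * (j + 1)) by ring, pow_add, pow_add]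
          ring
      _ ≤ q ^ ((j + 1) * j) * ((4 * (q ^ (j + 1) - 1)) * (3 * prB q j)) :=
          Nat.mul_le_mul_left _ (Nat.mul_le_mul h3 h2)
      _ = 6 * (2 * (q ^ ((j + 1) * j) * ((q ^ (j + 1) - 1) * prB q j))) := by ring
  omega

theorem ominus_aux {k q : ℕ} (h : IsNamed (.ominus k q) Q) :
    q ^ (k * (2 * k - 1)) ≤ 2 * (Nat.gcd 4 (q ^ k + 1) * Nat.card Q) := by
  have hk : 4 ≤ k := h.cond.1
  have hq : 2 ≤ q := h.cond.2.two_le
  have h1 : Nat.gcd 4 (q ^ k + 1) * Nat.card Q = q ^ (k * (k - 1)) * ((q ^ k + 1) * prB q (k - 1)) := h.eq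
  have h2 := prB_ge hq (k - 1)
  have h3 : 3 * q ^ k ≤ 4 * (q ^ k + 1) := by omega
  obtain ⟨j, rfl⟩ : ∃ j, k = j + 1 := ⟨k - 1, by omega⟩
  rw [h1]
  have e1 : j + 1 - 1 = j := by omega
  rw [e1] at h2 ⊢
  have h4 : 6 * q ^ ((j + 1) * (2 * (j + 1) - 1)) ≤ 6 * (2 * (q ^ ((j + 1) * j) * ((q ^ (j + 1) + 1) * prB q j))) := by
    calc 6 * q ^ ((j + 1) * (2 * (j + 1) - 1)) = q ^ ((j + 1) * j) * ((3 * q ^ (j + 1)) * (2 * q ^ (j * (j + 1)))) := by
          have : 2 * (j + 1) - 1 = 2 * j + 1 := by omega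
          rw [this, show (j + 1) * (2 * j + 1) = (j + 1) * j + ((j + 1) + j * (j + 1)) by ring, pow_add, pow_add]
          ring
      _ ≤ q ^ ((j + 1) * j) * ((4 * (q ^ (j + 1) + 1)) * (3 * prB q j)) :=
          Nat.mul_le_mul_left _ (Nat.mul_le_mul h3 h2)
      _ = 6 * (2 * (q ^ ((j + 1) * j) * ((q ^ (j + 1) + 1) * prB q j))) := by ring
  omega

theorem gcd_four_odd {x : ℕ} (h : ¬ 2 ∣ x) : Nat.gcd 4 x = 1 := by
  have h1 : Nat.Coprime 2 x := (Nat.Prime.coprime_iff_not_dvd Nat.prime_two).2 h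
  have h2 : Nat.Coprime (2 ^ 2) x := Nat.Coprime.pow_left 2 h1
  exact h2

theorem oplus_ge {k q : ℕ} (h : IsNamed (.oplus k q) Q) : q ^ (k * (2 * k - 1)) ≤ 8 * Nat.card Q := by
  have h1 := oplus_aux h
  have h2 : Nat.gcd 4 (q ^ k - 1) ≤ 4 := Nat.gcd_le_left _ (by norm_num)
  have h3 := Nat.mul_le_mul_right (Nat.card Q) h2
  omega

theorem ominus_ge {k q : ℕ} (h : IsNamed (.ominus k q) Q) : q ^ (k * (2 * k - 1)) ≤ 8 * Nat.card Q := by
  have h1 := ominus_aux h
  have h2 : Nat.gcd 4 (q ^ k + 1) ≤ 4 := Nat.gcd_le_left _ (by norm_num)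
  have h3 := Nat.mul_le_mul_right (Nat.card Q) h2
  omega

theorem oplus_ge_even {k q : ℕ} (h : IsNamed (.oplus k q) Q) (h2 : 2 ∣ q) : q ^ (k * (2 * k - 1)) ≤ 2 * Nat.card Q := by
  have h1 := oplus_aux h
  have hk : 4 ≤ k := h.cond.1
  have hq : 2 ≤ q := h.cond.2.two_le
  have h3 : 2 ∣ q ^ k := dvd_pow h2 (by omega)
  have h4 : 1 ≤ q ^ k := Nat.one_le_pow _ _ (by omega)
  rwa [gcd_four_odd (by omega), one_mul] at h1

theorem ominus_ge_even {k q : ℕ} (h : IsNamed (.ominus k q) Q) (h2 : 2 ∣ q) :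
    q ^ (k * (2 * k - 1)) ≤ 2 * Nat.card Q := by
  have h1 := ominus_aux h
  have hk : 4 ≤ k := h.cond.1
  have h3 : 2 ∣ q ^ k := dvd_pow h2 (by omega)
  rwa [gcd_four_odd (by omega), one_mul] at h1

end Cfsg.Agent.H568.EP
end

private theorem dce_8df63e453e34 : _root_.True := by
  try have : _root_.True := by simp only [_root_.Cfsg.Agent.H568.EP.prG.eq_1]
  try have : _root_.True := by simp only [_root_.Cfsg.Agent.OrdDiv.prU.eq_1]
  exact _root_.True.intro
end

-- part: H568/EP/Big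
section
set_option linter.all false
open scoped Cfsg.Agent.FastGrp

/-!
# S3499: names and orders of the groups with a `Model` (helper568)
-/

set_option autoImplicit false

namespace Cfsg.Agent.H568.EP

open Cfsg Cfsg.Agent.OrdDiv Cfsg.Agent.H419.EP Cfsg.Agent.H436
open Cfsg.Agent.LieClassical.OrthCore
open scoped MatrixGroups

/-- two groups with a model over the same matrix group are isomorphic -/
theorem equiv_of_models {Q Q' : Type*} [Group Q] [Group Q'] {ι : Type} [Fintype ι] [DecidableEq ι] {F : Type*} [Field F]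
    {S : Subgroup (GL ι F)} (m : Model Q S) (m' : Model Q' S) : Nonempty (Q ≃* Q') := by
  have hk : m.π.ker = m'.π.ker := by
    ext s
    rw [MonoidHom.mem_ker, MonoidHom.mem_ker, m.ker, m'.ker]
  exact ⟨((QuotientGroup.quotientKerEquivOfSurjective m.π m.surj).symm.trans
    (QuotientGroup.quotientMulEquivOfEq hk)).trans (QuotientGroup.quotientKerEquivOfSurjective m'.π m'.surj)⟩

section
universe u
variable {Q : Type u} [Group Q] {F : Type} [Field F] [Fintype F]

theorem isPP : IsPrimePow (Fintype.card F) := Fintype.isPrimePow_card_of_field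

/-! ### names -/

theorem sl_named {n : ℕ} (hn : 2 ≤ n) (h2 : n = 2 → 4 ≤ Fintype.card F)
    (m : Model Q (Cfsg.Geo.specialLinear (Fin n) F)) : IsNamed (.psl n (Fintype.card F)) Q := by
  obtain ⟨m'⟩ := H117.EP.model_PSL (F := F) hn
  obtain ⟨e⟩ := equiv_of_models m m'
  refine IsNamed.mk' ⟨F, inferInstance, inferInstance, rfl, ⟨e⟩⟩ ⟨hn, h2, isPP⟩ ?_
  rw [Nat.card_congr e.toEquiv]
  exact psl_eq hn

theorem sp_named {k : ℕ} (hk : 2 ≤ k) (h2 : k = 2 → 3 ≤ Fintype.card F)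
    (m : Model Q (Cfsg.spGL k F)) : IsNamed (.psp k (Fintype.card F)) Q := by
  obtain ⟨e⟩ := equiv_of_models m (H729.EPM.modelPSp k F)
  refine IsNamed.mk' ⟨F, inferInstance, inferInstance, rfl, ⟨e⟩⟩ ⟨hk, h2, isPP⟩ ?_
  rw [Nat.card_congr e.toEquiv]
  exact psp_eq hk

theorem su_named {n q : ℕ} (hF : Fintype.card F = q ^ 2) (hn : 3 ≤ n) (h2 : ¬ (n = 3 ∧ q = 2))
    (m : Model Q (Cfsg.GU n F q ⊓ Cfsg.Geo.specialLinear (Fin n) F)) : IsNamed (.psu n q) Q := by
  obtain ⟨m'⟩ := H117.EP.model_PSU (F := F) hF hn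
  obtain ⟨e⟩ := equiv_of_models m m'
  have hq : IsPrimePow q := by
    have h1 : IsPrimePow (q ^ 2) := hF ▸ isPP (F := F)
    exact (isPrimePow_pow_iff (by norm_num)).1 h1
  refine IsNamed.mk' ⟨F, inferInstance, inferInstance, hF, ⟨e⟩⟩ ⟨hn, h2, hq⟩ ?_
  rw [Nat.card_congr e.toEquiv]
  exact psu_eq hF hn

omit [Fintype F] in
/-- the odd standard form is degenerate in characteristic two -/
theorem two_ne_of_sim {V : Type*} [AddCommGroup V] [Module F V] {Q' : QuadraticForm F V} (hQ : Nondeg Q') {k : ℕ}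
    (h : GenOrth.Sim Q' (Cfsg.quadFormOdd k F)) : (2 : F) ≠ 0 := by
  intro h2
  obtain ⟨c, hc, j, hj⟩ := h
  have h1 : j (Pi.single (.inl ()) 1) = 0 := by
    apply hQ
    intro y
    obtain ⟨x, rfl⟩ := j.surjective y
    rw [QuadraticMap.polar, ← map_add, hj, hj, hj]
    have h3 : Cfsg.quadFormOdd k F (Pi.single (.inl ()) 1 + x) = Cfsg.quadFormOdd k F (Pi.single (.inl ()) 1) +
        Cfsg.quadFormOdd k F x := by
      rw [LieClassical.OrthForms.quadFormOdd_apply, LieClassical.OrthForms.quadFormOdd_apply,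
        LieClassical.OrthForms.quadFormOdd_apply]
      simp
      linear_combination x (.inl ()) * h2
    rw [h3]
    ring
  have h5 : (Pi.single (.inl ()) 1 : Unit ⊕ (Fin k ⊕ Fin k) → F) = 0 := (map_eq_zero_iff j j.injective).1 h1
  have h6 := congrFun h5 (.inl ())
  simp at h6

theorem om_named {ι : Type} [Fintype ι] [DecidableEq ι] {Qf : (ι → F) → F} (hQ : Cfsg.Geo.IsNondegenerateQuadraticForm Qf)
    (hn : 7 ≤ Fintype.card ι) (m : Model Q (Cfsg.Geo.omegaGL Qf)) :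
    (∃ k, Fintype.card ι = 2 * k + 1 ∧ IsNamed (.oodd k (Fintype.card F)) Q) ∨
    (∃ k, Fintype.card ι = 2 * k ∧ (IsNamed (.oplus k (Fintype.card F)) Q ∨ IsNamed (.ominus k (Fintype.card F)) Q)) := by
  obtain ⟨m'⟩ := H775.EP.model_omega hQ (by omega)
  obtain ⟨e⟩ := equiv_of_models m m'
  obtain ⟨Q', hQ', hnd⟩ := H883.Bridge.exists_quadraticForm hQ
  subst hQ'
  rcases GenOrth.normal_form (Fintype.card ι) hnd (by rw [Module.finrank_fintype_fun_eq_card]) with ⟨k, hk, hs⟩ | ⟨k, hk, hs⟩ |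
    ⟨k, hk, a, b, hab, hs⟩
  · left
    have h2 := two_ne_of_sim hnd hs
    obtain ⟨c, hc, j, hj⟩ := hs
    obtain ⟨f⟩ := H173.OI.pomega_similar (Q := Cfsg.quadFormOdd k F) (Q' := ⇑Q') hc j hj
    have e' := e.trans f.symm
    have ho : Odd (Fintype.card F) := LieClassical.PomegaCard.odd_card_iff.2 h2
    refine ⟨k, hk, IsNamed.mk' ⟨F, inferInstance, inferInstance, rfl, ⟨e'⟩⟩ ⟨by omega, ho, isPP⟩ ?_⟩
    rw [Nat.card_congr e'.toEquiv]
    exact oodd_eq (by omega) ho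
  · right
    obtain ⟨c, hc, j, hj⟩ := hs
    obtain ⟨f⟩ := H173.OI.pomega_similar (Q := Cfsg.quadFormPlus k F) (Q' := ⇑Q') hc j hj
    have e' := e.trans f.symm
    refine ⟨k, hk, Or.inl (IsNamed.mk' ⟨F, inferInstance, inferInstance, rfl, ⟨e'⟩⟩ ⟨by omega, isPP⟩ ?_)⟩
    rw [Nat.card_congr e'.toEquiv]
    exact oplus_eq (by omega)
  · right
    obtain ⟨c, hc, j, hj⟩ := hs
    obtain ⟨f⟩ := H173.OI.pomega_similar (Q := Cfsg.quadFormMinus k F a b) (Q' := ⇑Q') hc j hj
    have e' := e.trans f.symm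
    refine ⟨k + 1, by omega, Or.inr (IsNamed.mk' ⟨F, inferInstance, inferInstance, a, b, rfl, hab, ⟨e'⟩⟩ ⟨by omega, isPP⟩ ?_)⟩
    rw [Nat.card_congr e'.toEquiv]
    exact ominus_eq (m := k + 1) (by omega) hab

end

end Cfsg.Agent.H568.EP
end

-- part: H568/EP/Ord
section
set_option linter.all false
open scoped Cfsg.Agent.FastGrp

/-!
# S3499: the four order theorems `OrdLin`, `OrdSp`, `OrdUni`, `OrdOrth` (helper568)
-/

set_option autoImplicit false

namespace Cfsg.Agent.H568.EP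

open Cfsg Cfsg.Agent.OrdDiv Cfsg.Agent.H419.EP Cfsg.Agent.H436

theorem ordLin : OrdLin := by
  intro Q _ _ F _ _ n m hn
  exact psl_ge (sl_named (by omega) (by omega) m)

theorem ordSp : OrdSp := by
  intro Q _ _ F _ _ k m hk
  have h := psp_ge (sp_named (by omega) (by omega) m)
  omega

theorem ordUni : OrdUni := by
  intro Q _ _ F _ _ n q m hF hn
  exact psu_ge (su_named hF (by omega) (by omega) m)

theorem ordOrth : OrdOrth := by
  intro Q _ _ F _ _ ι _ _ Qf m hn hQ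
  rcases om_named hQ (by omega) m with ⟨k, hk, h⟩ | ⟨k, hk, h | h⟩
  · have h1 := oodd_ge h
    have h2 : Fintype.card ι * (Fintype.card ι - 1) / 2 = k * (2 * k + 1) := by
      rw [hk, Nat.add_sub_cancel, show (2 * k + 1) * (2 * k) = k * (2 * k + 1) * 2 by ring, Nat.mul_div_cancel _ (by norm_num)]
    rw [h2]; omega
  · have h1 := oplus_ge h
    have h2 : Fintype.card ι * (Fintype.card ι - 1) / 2 = k * (2 * k - 1) := by
      rw [hk, show (2 * k) * (2 * k - 1) = k * (2 * k - 1) * 2 by ring, Nat.mul_div_cancel _ (by norm_num)]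
    rw [h2]; exact h1
  · have h1 := ominus_ge h
    have h2 : Fintype.card ι * (Fintype.card ι - 1) / 2 = k * (2 * k - 1) := by
      rw [hk, show (2 * k) * (2 * k - 1) = k * (2 * k - 1) * 2 by ring, Nat.mul_div_cancel _ (by norm_num)]
    rw [h2]; exact h1

end Cfsg.Agent.H568.EP
end

-- part: H957/EP/InfNeBot
section
prune_inst 0x302041400c0010000018009041003c66f2000192006b000111e0050204865f4120010f21fce00e12113a2a64003a8048101000f90038000020008200411800a0842a70c68248b104210001c0f807180c00000000000000000000000000041004000000000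
set_option linter.all false
open scoped Cfsg.Agent.FastGrp

/-!
# S3499: `A ∩ A^x ∩ soc(A) ≠ 1` (helper957)

`inf_ne_bot`: `EPT A Γ`, `N = soc(A)` simple nonabelian, the subgroups of `A` that meet `N` trivially are solvable:
`A ∩ A^x ∩ N ≠ 1` for all `x ∉ A`. `solv_of_DS`: this holds if `Out N` is solvable (`H936.DS n N`).
`ncard_le_locK`: there are at most `|LocK N|` groups `A ∩ A^x`.
-/

set_option autoImplicit false

namespace Cfsg.Agent.H957.EP

open Subgroup Cfsg.Agent.H284 Cfsg.Agent.H839.EP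
open scoped commutatorElement Pointwise

section coprime

variable {Q : Type*} [Group Q] {N E : Subgroup Q}

/-- `E` acts on `N` by conjugation -/
@[reducible] def actN (hEN : ∀ e ∈ E, ∀ n ∈ N, e * n * e⁻¹ ∈ N) : MulDistribMulAction E N where
  smul e n := ⟨e.1 * n.1 * e.1⁻¹, hEN e.1 e.2 n.1 n.2⟩
  one_smul n := Subtype.ext (by show (1 : Q) * n.1 * (1 : Q)⁻¹ = n.1; group)
  mul_smul e f n := Subtype.ext (by
    show (e.1 * f.1) * n.1 * (e.1 * f.1)⁻¹ = e.1 * (f.1 * n.1 * f.1⁻¹) * e.1⁻¹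
    group)
  smul_one e := Subtype.ext (by show e.1 * (1 : Q) * e.1⁻¹ = 1; group)
  smul_mul e a b := Subtype.ext (by
    show e.1 * (a.1 * b.1) * e.1⁻¹ = (e.1 * a.1 * e.1⁻¹) * (e.1 * b.1 * e.1⁻¹)
    group)

variable [Finite Q]

/-- an `s`-group `E` with `C_N(E) = 1`: `s ∤ |N|` -/
theorem not_dvd_of_cent (hEN : ∀ e ∈ E, ∀ n ∈ N, e * n * e⁻¹ ∈ N) {s : ℕ} (hs : s.Prime) (hE : IsPGroup s E)
    (hC : ∀ n ∈ N, (∀ e ∈ E, e * n * e⁻¹ = n) → n = 1) : ¬ s ∣ Nat.card N := by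
  have _hf : Fact s.Prime := ⟨hs⟩
  let _act := actN hEN
  intro hd
  have h1 : (1 : N) ∈ MulAction.fixedPoints E N := fun e => smul_one e
  obtain ⟨b, hb, hb1⟩ := hE.exists_fixed_point_of_prime_dvd_card_of_fixed_point N hd h1
  apply hb1
  symm
  apply Subtype.ext
  apply hC b.1 b.2
  intro e he
  exact congrArg Subtype.val (hb ⟨e, he⟩)

/-- an `s`-group `E` with `C_N(E) = 1` leaves exactly one Sylow `r`-subgroup of `N` invariant -/
theorem exists_inv_sylow (hEN : ∀ e ∈ E, ∀ n ∈ N, e * n * e⁻¹ ∈ N) {s : ℕ} (hs : s.Prime) (hE : IsPGroup s E)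
    (hC : ∀ n ∈ N, (∀ e ∈ E, e * n * e⁻¹ = n) → n = 1) (r : ℕ) [Fact r.Prime] :
    ∃ P : Sylow r N, (∀ e ∈ E, ∀ k ∈ (P : Subgroup N).map N.subtype, e * k * e⁻¹ ∈ (P : Subgroup N).map N.subtype) ∧
      ∀ P' : Sylow r N, (∀ e ∈ E, ∀ k ∈ (P' : Subgroup N).map N.subtype,
        e * k * e⁻¹ ∈ (P' : Subgroup N).map N.subtype) → P' = P := by
  have _hf : Fact s.Prime := ⟨hs⟩
  have hnd := not_dvd_of_cent hEN hs hE hC
  let _act := actN hEN
  -- fixed Sylow subgroups in terms of elements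
  have hfix : ∀ P : Sylow r N, P ∈ MulAction.fixedPoints E (Sylow r N) ↔
      ∀ e ∈ E, ∀ k ∈ (P : Subgroup N).map N.subtype, e * k * e⁻¹ ∈ (P : Subgroup N).map N.subtype := by
    intro P
    constructor
    · intro h e he
      rintro _ ⟨k, hk, rfl⟩
      have h1 := h ⟨e, he⟩
      have h2 : (⟨e, he⟩ : E) • k ∈ ((⟨e, he⟩ : E) • P : Sylow r N) := by
        exact Subgroup.smul_mem_pointwise_smul k (⟨e, he⟩ : E) (P : Subgroup N) hk
      rw [h1] at h2
      exact ⟨_, h2, rfl⟩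
    · intro h e
      apply Sylow.ext
      have hle : ∀ f : E, f • (P : Subgroup N) ≤ (P : Subgroup N) := by
        intro f y hy
        obtain ⟨k, hk, rfl⟩ := Subgroup.mem_smul_pointwise_iff_exists _ _ _ |>.1 hy
        obtain ⟨z, hz, hz'⟩ := h f.1 f.2 k.1 ⟨k, hk, rfl⟩
        have : z = f • k := Subtype.ext hz'
        rw [← this]
        exact hz
      show e • (P : Subgroup N) = (P : Subgroup N)
      refine le_antisymm (hle e) ?_
      have h3 := hle e⁻¹
      rw [← Subgroup.pointwise_smul_le_pointwise_smul_iff (a := e), smul_inv_smul] at h3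
      exact h3
  obtain ⟨P, hP⟩ : (MulAction.fixedPoints E (Sylow r N)).Nonempty := by
    refine hE.nonempty_fixed_point_of_prime_not_dvd_card (Sylow r N) ?_
    intro hd
    exact hnd (hd.trans ((default : Sylow r N).card_dvd_index.trans (Subgroup.index_dvd_card _)))
  refine ⟨P, (hfix P).1 hP, ?_⟩
  intro P' hP'
  replace hP' := (hfix P').2 hP'
  have hcompat : ∀ (e : E) (n : N) (R : Sylow r N), e • (n • R) = (e • n) • (e • R) := by
    intro e n R
    apply Sylow.ext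
    show e • (MulAut.conj n • (R : Subgroup N)) = MulAut.conj (e • n) • (e • (R : Subgroup N))
    ext y
    simp only [Subgroup.mem_smul_pointwise_iff_exists]
    constructor
    · rintro ⟨_, ⟨k, hk, rfl⟩, rfl⟩
      refine ⟨e • k, ⟨k, hk, rfl⟩, ?_⟩
      show MulAut.conj (e • n) (e • k) = e • (MulAut.conj n k)
      rw [MulAut.conj_apply, MulAut.conj_apply, smul_mul', smul_mul', smul_inv']
    · rintro ⟨_, ⟨k, hk, rfl⟩, rfl⟩
      refine ⟨MulAut.conj n k, ⟨k, hk, rfl⟩, ?_⟩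
      show e • (MulAut.conj n k) = MulAut.conj (e • n) (e • k)
      rw [MulAut.conj_apply, MulAut.conj_apply, smul_mul', smul_mul', smul_inv']
  let X := {n : N // n • P = P'}
  let _aX : MulAction E X :=
    { smul := fun e n => ⟨e • n.1, by
        have h1 := hcompat e n.1 P
        rw [hP e, n.2, hP' e] at h1
        exact h1.symm⟩
      one_smul := fun n => Subtype.ext (one_smul E n.1)
      mul_smul := fun e f n => Subtype.ext (mul_smul e f n.1) }
  obtain ⟨n0, hn0⟩ := MulAction.exists_smul_eq N P P'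
  have hcX : Nat.card X = Nat.card (MulAction.stabilizer N P) := by
    refine Nat.card_congr
      { toFun := fun n => ⟨n0⁻¹ * n.1, by
          rw [MulAction.mem_stabilizer_iff, mul_smul, n.2, ← hn0, inv_smul_smul]⟩
        invFun := fun n => ⟨n0 * n.1, by
          have := MulAction.mem_stabilizer_iff.1 n.2
          rw [mul_smul, this, hn0]⟩
        left_inv := fun n => Subtype.ext (by simp)
        right_inv := fun n => Subtype.ext (by simp) }
  obtain ⟨n, hn⟩ : (MulAction.fixedPoints E X).Nonempty := by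
    refine hE.nonempty_fixed_point_of_prime_not_dvd_card X ?_
    rw [hcX]
    exact fun hd => hnd (hd.trans (Subgroup.card_subgroup_dvd_card _))
  have h1 : n.1 = 1 := by
    apply Subtype.ext
    apply hC n.1.1 n.1.2
    intro e he
    have h2 := congrArg Subtype.val (hn ⟨e, he⟩)
    exact congrArg Subtype.val h2
  have h2 := n.2
  rw [h1, one_smul] at h2
  exact h2.symm

end coprime

section ept

variable {Q : Type*} [Group Q] [Finite Q] {A N : Subgroup Q} {Γ : Subgroup (MulAut Q)}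

/-- an abelian characteristically simple group is elementary abelian -/
theorem elab_of_char {X : Type*} [Group X] [Finite X] [Nontrivial X]
    (hc : ∀ Y : Subgroup X, Y.Characteristic → Y = ⊥ ∨ Y = ⊤) (hcomm : ∀ a b : X, a * b = b * a) :
    ∃ s : ℕ, s.Prime ∧ s ∣ Nat.card X ∧ Cfsg.Agent.H59.EP.ElAb s (⊤ : Subgroup X) := by
  obtain ⟨s, hs, hsd⟩ := Nat.exists_prime_and_dvd (n := Nat.card X) (by
    have := Finite.one_lt_card (α := X)
    omega)
  have _hf : Fact s.Prime := ⟨hs⟩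
  obtain ⟨x, hx⟩ := exists_prime_orderOf_dvd_card' s hsd
  let Y : Subgroup X :=
    { carrier := {y | y ^ s = 1}
      one_mem' := one_pow s
      mul_mem' := fun {a b} ha hb => by
        show (a * b) ^ s = 1
        rw [(show Commute a b from hcomm a b).mul_pow, show a ^ s = 1 from ha, show b ^ s = 1 from hb, one_mul]
      inv_mem' := fun {a} ha => by
        show a⁻¹ ^ s = 1
        rw [inv_pow, show a ^ s = 1 from ha, inv_one] }
  have hY : Y.Characteristic := by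
    rw [characteristic_iff_map_le]
    rintro φ _ ⟨y, hy, rfl⟩
    show (φ y) ^ s = 1
    rw [← map_pow, show y ^ s = 1 from hy, map_one]
  refine ⟨s, hs, hsd, fun a _ b _ => hcomm a b, ?_⟩
  rcases hc Y hY with h | h
  · exfalso
    have h1 : x ∈ Y := by
      show x ^ s = 1
      rw [← hx, pow_orderOf_eq_one]
    rw [h, mem_bot] at h1
    rw [h1, orderOf_one] at hx
    exact hs.one_lt.ne hx
  · intro a _
    have h1 : a ∈ Y := by rw [h]; exact mem_top _
    exact h1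

/-- a solvable group `≠ 1` has a characteristic `s`-subgroup `≠ 1` -/
theorem exists_char_pgroup {X : Type*} [Group X] [Finite X] [Nontrivial X] (h : Group.IsSolvable X) :
    ∃ s : ℕ, s.Prime ∧ ∃ E : Subgroup X, E.Characteristic ∧ E ≠ ⊥ ∧ IsPGroup s E ∧ Cfsg.Agent.H59.EP.ElAb s E := by
  obtain ⟨E, hE, hE0, hmin⟩ := Cfsg.Agent.H59.EP.exists_min_char (B := X)
  have hnt : Nontrivial E := (Subgroup.nontrivial_iff_ne_bot E).2 hE0
  have hch : ∀ Y : Subgroup E, Y.Characteristic → Y = ⊥ ∨ Y = ⊤ := by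
    intro Y hY
    by_cases hY0 : Y = ⊥
    · exact Or.inl hY0
    right
    have h1 : (Y.map E.subtype).Characteristic := Cfsg.Agent.H59.EP.char_trans
    have h2 : Y.map E.subtype ≠ ⊥ := by
      intro e
      rw [Subgroup.map_eq_bot_iff_of_injective _ E.subtype_injective] at e
      exact hY0 e
    have h3 := hmin _ h1 (Subgroup.map_subtype_le Y) h2
    rw [eq_top_iff]
    intro y _
    have h4 : (y : X) ∈ Y.map E.subtype := by rw [h3]; exact y.2
    obtain ⟨z, hz, e⟩ := h4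
    rwa [Subtype.ext e] at hz
  have hsol : Group.IsSolvable E := Group.isSolvable_of_isSolvable_injective (f := E.subtype) E.subtype_injective
  have hcomm : ∀ a b : E, a * b = b * a := by
    have h1 : commutator E < ⊤ := Group.IsSolvable.commutator_lt_top_of_nontrivial E
    rcases hch (commutator E) inferInstance with h2 | h2
    · intro a b
      have h3 : ⁅a, b⁆ ∈ commutator E := commutator_mem_commutator (mem_top _) (mem_top _)
      rw [h2, mem_bot, commutatorElement_eq_one_iff_mul_comm] at h3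
      exact h3
    · exact absurd h2 h1.ne
  obtain ⟨s, hs, _, hel⟩ := elab_of_char hch hcomm
  refine ⟨s, hs, E, hE, hE0, ?_, ⟨fun a ha b hb => congrArg Subtype.val (hcomm ⟨a, ha⟩ ⟨b, hb⟩), ?_⟩⟩
  · intro x
    exact ⟨1, by rw [pow_one]; exact hel.exp x (mem_top _)⟩
  · intro a ha
    exact congrArg Subtype.val (hel.exp ⟨a, ha⟩ (mem_top _))

/-- **`A ∩ A^x ∩ N ≠ 1`** -/
theorem inf_ne_bot (h : EPT A Γ) (hS : Soc A N) (hs : IsSimpleGroup N)
    (hnc : ¬ ∀ a ∈ N, ∀ b ∈ N, a * b = b * a)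
    (hsol : ∀ M : Subgroup Q, M ≤ A → M ⊓ N = ⊥ → Group.IsSolvable M) {x : Q} (hx : x ∉ A) :
    A ⊓ cj x A ⊓ N ≠ ⊥ := by
  intro h0
  have hinv := hS.inv h hs
  have hne := h.M0 x hx
  have hnt : Nontrivial (A ⊓ cj x A : Subgroup Q) := (Subgroup.nontrivial_iff_ne_bot _).2 hne
  obtain ⟨s, hsp, E0, hE0c, hE0n, hE0p, _⟩ := exists_char_pgroup (hsol (A ⊓ cj x A) inf_le_left h0)
  set E : Subgroup Q := E0.map (A ⊓ cj x A : Subgroup Q).subtype with hE
  have hEle : E ≤ A ⊓ cj x A := Subgroup.map_subtype_le E0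
  have hEne : E ≠ ⊥ := by
    intro e
    rw [hE, Subgroup.map_eq_bot_iff_of_injective _ (Subgroup.subtype_injective _)] at e
    exact hE0n e
  have hEp : IsPGroup s E := hE0p.map _
  -- `E` is invariant under the stabiliser of the point `xA`
  have hEinv : ∀ σ ∈ Γ, x⁻¹ * σ x ∈ A → ∀ k ∈ E, σ k ∈ E := by
    intro σ hσ hσx
    rintro _ ⟨y, hy, rfl⟩
    let f : (A ⊓ cj x A : Subgroup Q) →* (A ⊓ cj x A : Subgroup Q) :=
      { toFun := fun y => ⟨σ y.1, h.stab_M0 hσ hσx y.2⟩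
        map_one' := Subtype.ext (map_one σ)
        map_mul' := fun a b => Subtype.ext (map_mul σ _ _) }
    have hf : Function.Injective f := by
      intro a b e
      exact Subtype.ext (σ.injective (congrArg Subtype.val e))
    let τ : MulAut (A ⊓ cj x A : Subgroup Q) := MulEquiv.ofBijective f (Finite.injective_iff_bijective.1 hf)
    have hτ : E0.map τ.toMonoidHom = E0 := Subgroup.characteristic_iff_map_eq.1 hE0c τ
    have h1 : τ y ∈ E0 := by
      rw [← hτ]
      exact ⟨y, hy, rfl⟩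
    exact ⟨_, h1, rfl⟩
  have hEN : ∀ e ∈ E, ∀ n ∈ N, e * n * e⁻¹ ∈ N := fun e he n hn => hS.nor e (mem_inf.1 (hEle he)).1 n hn
  have hC : ∀ n ∈ N, (∀ e ∈ E, e * n * e⁻¹ = n) → n = 1 := by
    intro n hn hcn
    have h1 : n ∈ A ⊓ cj x A := by
      refine Cfsg.Agent.H273.EPU.mem_of_norm h hx hEle hEinv hEne (hS.le hn) ?_
      intro k hk
      have h2 := hcn k hk
      have h3 : n * k * n⁻¹ = k := by
        have h4 : k * n = n * k := by
          rw [mul_inv_eq_iff_eq_mul] at h2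
          exact h2
        rw [← h4, mul_assoc, mul_inv_cancel, mul_one]
      rw [h3]
      exact hk
    have h2 : n ∈ A ⊓ cj x A ⊓ N := ⟨h1, hn⟩
    rw [h0, mem_bot] at h2
    exact h2
  have hN0 : N ≠ ⊥ := by
    intro e
    apply hnc
    intro a ha b hb
    rw [e, mem_bot] at ha hb
    rw [ha, hb]
  have hNc : Nat.card N ≠ 1 := by
    intro e
    exact hN0 (Subgroup.card_eq_one.1 e)
  obtain ⟨r, hr, hrd⟩ := Nat.exists_prime_and_dvd hNc
  have hrf : Fact r.Prime := ⟨hr⟩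
  obtain ⟨P, hPE, hPu⟩ := exists_inv_sylow hEN hsp hEp hC r
  set S : Subgroup Q := (P : Subgroup N).map N.subtype with hSdef
  have hSN : S ≤ N := Subgroup.map_subtype_le _
  have hS0 : S ≠ ⊥ := by
    intro e
    rw [hSdef, Subgroup.map_eq_bot_iff_of_injective _ N.subtype_injective] at e
    exact P.ne_bot_of_dvd_card hrd e
  -- the stabiliser of `S` in `Γ`
  let Λ : Subgroup (MulAut Q) :=
    { carrier := {σ | σ ∈ Γ ∧ ∀ k, σ k ∈ S ↔ k ∈ S}
      one_mem' := ⟨Γ.one_mem, fun k => Iff.rfl⟩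
      mul_mem' := fun {a b} ha hb => ⟨Γ.mul_mem ha.1 hb.1, fun k => by
        rw [MulAut.mul_apply, ha.2, hb.2]⟩
      inv_mem' := fun {a} ha => ⟨Γ.inv_mem ha.1, fun k => by
        rw [← ha.2 (a⁻¹ k), MulAut.apply_inv_self]⟩ }
  have hmemΛ : ∀ σ ∈ Γ, (∀ k ∈ S, σ k ∈ S) → σ ∈ Λ := by
    intro σ hσ hk
    refine ⟨hσ, fun k => ⟨fun hk' => ?_, hk k⟩⟩
    let g : S → S := fun y => ⟨σ y.1, hk y.1 y.2⟩
    have hg : Function.Injective g := fun a b e => Subtype.ext (σ.injective (congrArg Subtype.val e))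
    obtain ⟨y, hy⟩ := (Finite.injective_iff_surjective.1 hg) ⟨σ k, hk'⟩
    have h1 : σ y.1 = σ k := congrArg Subtype.val hy
    rw [← σ.injective h1]
    exact y.2
  -- the stabiliser of the point leaves `S` invariant
  have hst : ∀ σ ∈ Γ, x⁻¹ * σ x ∈ A → σ ∈ Λ := by
    intro σ hσ hσx
    refine hmemΛ σ hσ ?_
    -- the automorphism of `N`
    let f : N →* N :=
      { toFun := fun y => ⟨σ y.1, hinv σ hσ y.1 y.2⟩
        map_one' := Subtype.ext (map_one σ)
        map_mul' := fun a b => Subtype.ext (map_mul σ _ _) }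
    have hf : Function.Injective f := by
      intro a b e
      exact Subtype.ext (σ.injective (congrArg Subtype.val e))
    let τ : MulAut N := MulEquiv.ofBijective f (Finite.injective_iff_bijective.1 hf)
    have hτ : ∀ n : N, ((τ n : N) : Q) = σ n.1 := fun _ => rfl
    have hmem : ∀ k : Q, k ∈ (((τ • P : Sylow r N) : Subgroup N)).map N.subtype ↔ ∃ y ∈ S, k = σ y := by
      intro k
      constructor
      · rintro ⟨z, hz, rfl⟩
        obtain ⟨y, hy, rfl⟩ := hz
        exact ⟨y.1, ⟨y, hy, rfl⟩, rfl⟩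
      · rintro ⟨_, ⟨y, hy, rfl⟩, rfl⟩
        exact ⟨τ y, ⟨y, hy, rfl⟩, rfl⟩
    have hsurj : ∀ e ∈ E, ∃ f ∈ E, σ f = e := by
      intro e he
      let g : E → E := fun y => ⟨σ y.1, hEinv σ hσ hσx y.1 y.2⟩
      have hg : Function.Injective g := fun a b e => Subtype.ext (σ.injective (congrArg Subtype.val e))
      obtain ⟨y, hy⟩ := (Finite.injective_iff_surjective.1 hg) ⟨e, he⟩
      exact ⟨y.1, y.2, congrArg Subtype.val hy⟩
    have h2 := hPu (τ • P) (by
      intro e he k hk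
      rw [hmem] at hk ⊢
      obtain ⟨y, hy, rfl⟩ := hk
      obtain ⟨f, hf, rfl⟩ := hsurj e he
      exact ⟨f * y * f⁻¹, hPE f hf y hy, by rw [map_mul, map_mul, map_inv]⟩)
    intro k hk
    have h3 := (hmem (σ k)).2 ⟨k, hk, rfl⟩
    rw [h2] at h3
    exact h3
  rcases h.two x hx Λ (fun σ hσ => hσ.1) hst with h1 | h1
  · -- `N` normalises `S`
    have h2 : (P : Subgroup N).Normal := by
      refine ⟨fun k hk n => ?_⟩
      have h3 : MulAut.conj (n : Q) ∈ Λ := by
        rw [h1]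
        exact (h.conj _).2 (hS.le n.2)
      have h4 : MulAut.conj (n : Q) (k : Q) ∈ S := (h3.2 _).2 ⟨k, hk, rfl⟩
      obtain ⟨z, hz, e⟩ := h4
      have h5 : z = n * k * n⁻¹ := Subtype.ext e
      rw [← h5]
      exact hz
    rcases hs.eq_bot_or_eq_top_of_normal _ h2 with h3 | h3
    · exact P.ne_bot_of_dvd_card hrd h3
    · have h4 : IsPGroup r N := by
        have := P.isPGroup'
        intro n
        obtain ⟨k, hk⟩ := this ⟨n, by rw [h3]; exact mem_top _⟩
        exact ⟨k, congrArg Subtype.val hk⟩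
      have h5 : Group.IsNilpotent N := h4.isNilpotent
      have h6 : Nontrivial N := (Subgroup.nontrivial_iff_ne_bot N).2 hN0
      have h7 := hs.eq_bot_or_eq_top_of_normal (center N) inferInstance
      rcases h7 with h7 | h7
      · have h8 : Nontrivial (center N) := h4.center_nontrivial
        exact ((Subgroup.nontrivial_iff_ne_bot _).1 h8) h7
      · apply hnc
        intro a ha b hb
        have h8 : (⟨a, ha⟩ : N) ∈ center N := by rw [h7]; exact mem_top _
        have h9 := (Subgroup.mem_center_iff.1 h8) ⟨b, hb⟩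
        exact (congrArg Subtype.val h9).symm
  · -- `S` fixes the point
    apply hS0
    rw [Subgroup.eq_bot_iff_forall]
    intro k hk
    have hkA : k ∈ A := hS.le (hSN hk)
    have h2 : MulAut.conj k ∈ Λ := by
      refine hmemΛ _ ((h.conj k).2 hkA) ?_
      intro y hy
      exact S.mul_mem (S.mul_mem hk hy) (S.inv_mem hk)
    have h3 := (h.conj_stab hkA).1 (h1 _ h2)
    have h4 : k ∈ A ⊓ cj x A ⊓ N := ⟨⟨hkA, h3⟩, hSN hk⟩
    rw [h0, mem_bot] at h4
    exact h4

omit [Finite Q] in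
/-- `Out N` solvable: the subgroups of `A` that meet `N` trivially are solvable -/
theorem solv_of_DS (hS : Soc A N) {n : ℕ} (hd : Cfsg.Agent.H936.DS n N) (M : Subgroup Q) (hM : M ≤ A)
    (hMN : M ⊓ N = ⊥) : Group.IsSolvable M := by
  have hEN : ∀ e ∈ M, ∀ n ∈ N, e * n * e⁻¹ ∈ N := fun e he n hn => hS.nor e (hM he) n hn
  let f : M →* MulAut N :=
    { toFun := fun a =>
        { toFun := fun n => ⟨a.1 * n.1 * a.1⁻¹, hEN a.1 a.2 n.1 n.2⟩
          invFun := fun n => ⟨a.1⁻¹ * n.1 * a.1⁻¹⁻¹, hEN a.1⁻¹ (M.inv_mem a.2) n.1 n.2⟩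
          left_inv := fun n => Subtype.ext (by
            show a.1⁻¹ * (a.1 * n.1 * a.1⁻¹) * a.1⁻¹⁻¹ = n.1
            group)
          right_inv := fun n => Subtype.ext (by
            show a.1 * (a.1⁻¹ * n.1 * a.1⁻¹⁻¹) * a.1⁻¹ = n.1
            group)
          map_mul' := fun x y => Subtype.ext (by
            show a.1 * (x.1 * y.1) * a.1⁻¹ = (a.1 * x.1 * a.1⁻¹) * (a.1 * y.1 * a.1⁻¹)
            group) }
      map_one' := by
        ext n
        show (1 : Q) * n.1 * (1 : Q)⁻¹ = n.1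
        group
      map_mul' := fun a b => by
        ext n
        show (a.1 * b.1) * n.1 * (a.1 * b.1)⁻¹ = a.1 * (b.1 * n.1 * b.1⁻¹) * a.1⁻¹
        group }
  have hf : ∀ (a : M) (n : N), ((f a n : N) : Q) = a.1 * n.1 * a.1⁻¹ := fun _ _ => rfl
  refine (Group.isSolvable_def M).2 ⟨n, ?_⟩
  rw [Subgroup.eq_bot_iff_forall]
  intro a ha
  have h2 : f a ∈ derivedSeries (MulAut N) n := Cfsg.Agent.H936.map_derivedSeries_le f n ⟨a, ha, rfl⟩
  obtain ⟨t, ht⟩ := hd h2
  have h3 : (t : Q)⁻¹ * a = 1 := by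
    refine hS.cen _ (A.mul_mem (A.inv_mem (hS.le t.2)) (hM a.2)) ?_
    intro x hx
    have h4 := congrArg Subtype.val (DFunLike.congr_fun ht ⟨x, hx⟩)
    have h5 : (t : Q) * x * (t : Q)⁻¹ = a.1 * x * a.1⁻¹ := h4
    have h6 : x = (t : Q)⁻¹ * (a.1 * x * a.1⁻¹) * t := by
      rw [← h5]; group
    calc (t : Q)⁻¹ * a * x = (t : Q)⁻¹ * (a.1 * x * a.1⁻¹) * t * ((t : Q)⁻¹ * a) := by group
      _ = x * ((t : Q)⁻¹ * a) := by rw [← h6]
  rw [inv_mul_eq_one] at h3
  have h4 : (a : Q) ∈ M ⊓ N := ⟨a.2, by rw [← h3]; exact t.2⟩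
  rw [hMN, mem_bot] at h4
  exact Subtype.ext h4

/-- **the two-point stabilisers, counted in the socle** -/
theorem ncard_le_locK (h : EPT A Γ) (hS : Soc A N) (hs : IsSimpleGroup N)
    (hnc : ¬ ∀ a ∈ N, ∀ b ∈ N, a * b = b * a)
    (hsol : ∀ M : Subgroup Q, M ≤ A → M ⊓ N = ⊥ → Group.IsSolvable M) :
    {M : Subgroup Q | ∃ x, x ∉ A ∧ M = A ⊓ cj x A}.ncard ≤ (Cfsg.Agent.H273.EPU.LocK N).ncard := by
  have hinv := hS.inv h hs
  have hMN : ∀ x : Q, ∀ σ ∈ Γ, x⁻¹ * σ x ∈ A → ∀ k ∈ A ⊓ cj x A ⊓ N, σ k ∈ A ⊓ cj x A ⊓ N :=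
    fun x σ hσ hσx k hk => ⟨h.stab_M0 hσ hσx (mem_inf.1 hk).1, hinv σ hσ k (mem_inf.1 hk).2⟩
  refine Set.ncard_le_ncard_of_injOn (fun M => M.subgroupOf N) ?_ ?_ (Set.toFinite _)
  · rintro _ ⟨x, hx, rfl⟩
    refine ⟨?_, ?_⟩
    · intro h0
      apply inf_ne_bot h hS hs hnc hsol hx
      rw [Subgroup.subgroupOf_eq_bot, disjoint_iff] at h0
      exact h0
    · intro Y hY hY0 n hn
      exact Cfsg.Agent.H273.EPU.mem_of_char h hS hinv hx (fun y => Iff.rfl) Y hY hY0 hn
  · have key : ∀ x y, x ∉ A → y ∉ A → (A ⊓ cj x A).subgroupOf N = (A ⊓ cj y A).subgroupOf N →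
        A ⊓ cj x A ≤ A ⊓ cj y A := by
      intro x y hx hy he m hm
      have he' : A ⊓ cj x A ⊓ N = A ⊓ cj y A ⊓ N := by
        have h1 := congrArg (Subgroup.map N.subtype) he
        rwa [Subgroup.subgroupOf_map_subtype, Subgroup.subgroupOf_map_subtype] at h1
      refine Cfsg.Agent.H273.EPU.mem_of_norm h hy (K := A ⊓ cj y A ⊓ N) inf_le_left (hMN y)
        (inf_ne_bot h hS hs hnc hsol hy) (mem_inf.1 hm).1 ?_
      intro k hk
      rw [← he'] at hk ⊢
      exact ⟨(A ⊓ cj x A).mul_mem ((A ⊓ cj x A).mul_mem hm (mem_inf.1 hk).1) ((A ⊓ cj x A).inv_mem hm),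
        hS.nor m (mem_inf.1 hm).1 k (mem_inf.1 hk).2⟩
    rintro _ ⟨x, hx, rfl⟩ _ ⟨y, hy, rfl⟩ e
    exact le_antisymm (key x y hx hy e) (key y x hy hx e.symm)

/-- the version for `HasSoc A L`, `Out L` solvable -/
theorem ncard_le_locK_hasSoc (h : EPT A Γ) {L : Type*} [Group L] [Finite L] (hS : Cfsg.Agent.H419.EP.HasSoc A L)
    (hL : IsSimpleGroup L) (hnc : ¬ ∀ a b : L, a * b = b * a) {n : ℕ} (hd : Cfsg.Agent.H936.DS n L) :
    {M : Subgroup Q | ∃ x, x ∉ A ∧ M = A ⊓ cj x A}.ncard ≤ (Cfsg.Agent.H273.EPU.LocK L).ncard := by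
  obtain ⟨N, h1, h2, h3, ⟨e⟩⟩ := hS
  have hS' : Soc A N := ⟨h1, h2, h3⟩
  refine (ncard_le_locK h hS' e.isSimpleGroup ?_ (solv_of_DS hS' (hd.of_equiv e.symm))).trans
    (Cfsg.Agent.H273.EPU.ncard_locK_le e)
  intro hc
  apply hnc
  intro a b
  apply e.symm.injective
  rw [map_mul, map_mul]
  exact Subtype.ext (hc _ (e.symm a).2 _ (e.symm b).2)

end ept

end Cfsg.Agent.H957.EP
end

-- part: H12/EP/Row15
section
set_option linter.all false
open scoped Cfsg.Agent.FastGrp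

/-!
# S3499: the residual row `Ω₇(q)`, `q` odd (S5815) (helper12)
-/

set_option autoImplicit false

namespace Cfsg.Agent.H12.EP

open Subgroup Cfsg.Agent.H284 Cfsg.Agent.H419.EP
open scoped MatrixGroups

/-- two groups with a model over the same matrix group are isomorphic -/
theorem model_equiv {Q Q' : Type*} [Group Q] [Group Q'] {ι : Type} [Fintype ι] [DecidableEq ι] {F : Type*} [Field F]
    {S : Subgroup (GL ι F)} (m : Model Q S) (m' : Model Q' S) : Nonempty (Q ≃* Q') := by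
  have hk : m.π.ker = m'.π.ker := by
    ext s
    rw [MonoidHom.mem_ker, MonoidHom.mem_ker, m.ker, m'.ker]
  exact ⟨((QuotientGroup.quotientKerEquivOfSurjective m.π m.surj).symm.trans
    (QuotientGroup.quotientMulEquivOfEq hk)).trans (QuotientGroup.quotientKerEquivOfSurjective m'.π m'.surj)⟩

/-- the order of `Ω₇(q)` -/
theorem card_omega7 {Q : Type*} [Group Q] {F : Type} [Field F] [Fintype F] (ho : Odd (Fintype.card F))
    (m : Model Q (Cfsg.Geo.omegaGL (Cfsg.quadFormOdd 3 F))) :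
    2 * Nat.card Q = Fintype.card F ^ 9 * ((Fintype.card F ^ 2 - 1) * (Fintype.card F ^ 4 - 1) *
      (Fintype.card F ^ 6 - 1)) := by
  obtain ⟨m'⟩ := H775.EP.model_odd 3 (by norm_num) F (H775.EP.two_ne_zero_of_odd ho)
  obtain ⟨e⟩ := model_equiv m m'
  rw [Nat.card_congr e.toEquiv]
  have h := Cfsg.Agent.S0292.result (F := F) rfl ho 3 le_rfl
  rw [h, Finset.prod_range_succ, Finset.prod_range_succ, Finset.prod_range_succ, Finset.prod_range_zero, one_mul]
  norm_num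

theorem card_psp32 : Nat.card (Cfsg.PSp 3 (ZMod 2)) = 1451520 := by
  have h := Cfsg.Agent.H321.Orders.psp_eq (F := ZMod 2) (m := 3) (by norm_num)
  rw [ZMod.card] at h
  have h2 : Cfsg.Agent.OrdDiv.prB 2 3 = 2835 := by decide
  rw [h2] at h
  norm_num at h
  exact h

theorem aut_psp32 : Nat.card (MulAut (Cfsg.PSp 3 (ZMod 2))) = 1451520 := by
  have := Fact.mk Nat.prime_two
  have h := Cfsg.Agent.S0814.result (F := ZMod 2) 2 1 le_rfl (by rw [ZMod.card]; norm_num) 3 (by norm_num) (by norm_num)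
  rw [h, card_psp32]
  norm_num

/-- the large case -/
theorem psp_large {Q : Type} [Group Q] [Finite Q] {A : Subgroup Q} {F : Type} [Field F] [Fintype F]
    (ho : Odd (Fintype.card F)) (m : Model Q (Cfsg.Geo.omegaGL (Cfsg.quadFormOdd 3 F)))
    (hA : HasSoc A (Cfsg.PSp 3 (ZMod 2))) (hF : 5 ≤ Fintype.card F) (hi : A.index ≤ 2 ^ 27) : False := by
  have h1 := hA.card_le
  rw [aut_psp32] at h1
  have h2 := A.card_mul_index
  have h3 := card_omega7 ho m
  have h4 : Nat.card Q ≤ 1451520 * 2 ^ 27 := by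
    rw [← h2]
    exact Nat.mul_le_mul h1 hi
  have h5 : 5 ^ 9 * ((5 ^ 2 - 1) * (5 ^ 4 - 1) * (5 ^ 6 - 1)) ≤ 2 * Nat.card Q := by
    rw [h3]
    refine Nat.mul_le_mul (Nat.pow_le_pow_left hF _) (Nat.mul_le_mul (Nat.mul_le_mul ?_ ?_) ?_)
    · exact Nat.sub_le_sub_right (Nat.pow_le_pow_left hF _) _
    · exact Nat.sub_le_sub_right (Nat.pow_le_pow_left hF _) _
    · exact Nat.sub_le_sub_right (Nat.pow_le_pow_left hF _) _
  norm_num at h4 h5
  omega

/-- **The row `Ω₇(q)`** from the list S5815, the theorems for `A₉` and `Sp₆(2)` and the own characteristic case. -/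
theorem row15 {Q : Type} [Group Q] [Finite Q] (hs : IsSimpleGroup Q) {A : Subgroup Q} {Γ : Subgroup (MulAut Q)}
    (h : EPT A Γ) {F : Type} [Field F] [Fintype F] (ho : Odd (Fintype.card F))
    (m : Model Q (Cfsg.Geo.omegaGL (Cfsg.quadFormOdd 3 F))) (hres : Cfsg.Geo.InOrthogonalResidualClass (m.hat A))
    (hlist : ∀ (H : Subgroup (Matrix.GeneralLinearGroup (Unit ⊕ (Fin 3 ⊕ Fin 3)) F)),
      Cfsg.Geo.IsMaximalIn (Cfsg.Geo.omegaGL (Cfsg.quadFormOdd 3 F)) H → Cfsg.Geo.InOrthogonalResidualClass H →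
      ∃ P : Subgroup (Matrix.GeneralLinearGroup (Unit ⊕ (Fin 3 ⊕ Fin 3)) F), Cfsg.Geo.IsResidualCore H P ∧
      ((Nonempty ((P ⧸ (Cfsg.Geo.scalars (Unit ⊕ (Fin 3 ⊕ Fin 3)) F).subgroupOf P) ≃* alternatingGroup (Fin 9)) ∧
        Fintype.card F = 3) ∨
       (Nonempty ((P ⧸ (Cfsg.Geo.scalars (Unit ⊕ (Fin 3 ⊕ Fin 3)) F).subgroupOf P) ≃* Cfsg.PSp 3 (ZMod 2)) ∧
        (Fintype.card F).Prime) ∨
       Nonempty ((P ⧸ (Cfsg.Geo.scalars (Unit ⊕ (Fin 3 ⊕ Fin 3)) F).subgroupOf P) ≃* Cfsg.Lie.G2 F)))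
    (hA9 : HasSoc A (alternatingGroup (Fin 9)) → Nat.card Q = 4585351680 → False)
    (hSp3 : HasSoc A (Cfsg.PSp 3 (ZMod 2)) → Nat.card Q = 4585351680 → False)
    (hSp : HasSoc A (Cfsg.PSp 3 (ZMod 2)) → A.index ≤ 2 ^ 27)
    (hown : HasSoc A (Cfsg.Lie.G2 F) → False) : False := by
  have hQ3 : Fintype.card F = 3 → Nat.card Q = 4585351680 := by
    intro hF
    have h3 := card_omega7 ho m
    rw [hF] at h3
    norm_num at h3
    omega
  obtain ⟨P, hP, h1⟩ := hlist _ (m.isMaximalIn h.max) hres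
  have hS := hasSoc_of_core m hP
  rcases h1 with ⟨⟨e⟩, hF⟩ | ⟨⟨e⟩, hF⟩ | e
  · exact hA9 (hS.congr e) (hQ3 hF)
  · by_cases hF3 : Fintype.card F = 3
    · exact hSp3 (hS.congr e) (hQ3 hF3)
    · refine psp_large ho m (hS.congr e) ?_ (hSp (hS.congr e))
      have h2 := hF.two_le
      rw [Nat.odd_iff] at ho
      omega
  · obtain ⟨e⟩ := e
    exact hown (hS.congr e)

end Cfsg.Agent.H12.EP
end

-- part: H107/EP/Eight
section
set_option linter.all false
open scoped Cfsg.Agent.FastGrp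

/-!
# S3499, row S5818 + S5821: socle `L₃(4)` in dimension 8 (helper107)

* `card_le_mul` : `|S| ≤ |Q| (|F| - 1)` for a model `m : Model Q S`;
* `pow_le_SL`, `pow_le_SU` : `q ^ (n (n - 1))` is at most `|Q| (q - 1) ^ 2`, resp. `|Q| (q ^ 2 - 1)`;
* `card_aut_l34` : `|Aut(L₃(4))| = 241920`;
* `row_lin`, `row_uni` : the rows, from the lists (S5818, S5821) and a bound for the index of `A`.
-/

set_option autoImplicit false

namespace Cfsg.Agent.H107.EP

open Subgroup Cfsg Cfsg.Agent.H284 Cfsg.Agent.H419.EP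
open scoped MatrixGroups

section Order

variable {Q : Type*} [Group Q] {ι : Type} [Fintype ι] [DecidableEq ι] {F : Type*} [Field F] [Fintype F]

theorem card_scalars_le : Nat.card (Cfsg.Geo.scalars ι F) ≤ Fintype.card F - 1 := by
  have h1 : Nat.card (Cfsg.Geo.scalars ι F) ≤ Nat.card Fˣ :=
    Nat.card_le_card_of_surjective (Units.map (Matrix.scalar ι : F →+* Matrix ι ι F).toMonoidHom).rangeRestrict
      (MonoidHom.rangeRestrict_surjective _)
  refine h1.trans (le_of_eq ?_)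
  rw [Nat.card_units, Nat.card_eq_fintype_card]

/-- `|S| ≤ |Q| (|F| - 1)` -/
theorem card_le_mul {S : Subgroup (GL ι F)} (m : Model Q S) :
    Nat.card S ≤ Nat.card Q * (Fintype.card F - 1) := by
  classical
  have h1 := Subgroup.card_eq_card_quotient_mul_card_subgroup m.π.ker
  have h2 : Nat.card (S ⧸ m.π.ker) = Nat.card Q :=
    Nat.card_congr (QuotientGroup.quotientKerEquivOfSurjective m.π m.surj).toEquiv
  have h3 : Nat.card m.π.ker ≤ Nat.card (Cfsg.Geo.scalars ι F) := by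
    let f : m.π.ker → Cfsg.Geo.scalars ι F := fun s => ⟨((s : S) : GL ι F), (m.ker s).1 s.2⟩
    refine Nat.card_le_card_of_injective f ?_
    intro a b hab
    have h4 : (((a : S) : GL ι F)) = ((b : S) : GL ι F) :=
      congrArg (fun y : Cfsg.Geo.scalars ι F => (y : GL ι F)) hab
    exact Subtype.ext (Subtype.ext h4)
  rw [h1, h2]
  exact Nat.mul_le_mul_left _ (h3.trans card_scalars_le)

/-- a lower bound for `|SL_n(q)|` -/
theorem pow_le_card_SL {n : ℕ} (hn : 1 ≤ n) :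
    Fintype.card F ^ (n * (n - 1)) ≤ Nat.card (Cfsg.Geo.specialLinear (Fin n) F) * (Fintype.card F - 1) := by
  classical
  have hq := Fintype.one_lt_card (α := F)
  have h1 := Subgroup.card_eq_card_quotient_mul_card_subgroup
    (Matrix.GeneralLinearGroup.det : GL (Fin n) F →* Fˣ).ker
  have h2 : Nat.card (GL (Fin n) F ⧸ (Matrix.GeneralLinearGroup.det : GL (Fin n) F →* Fˣ).ker) ≤
      Fintype.card F - 1 := by
    rw [Nat.card_congr (QuotientGroup.quotientKerEquivRange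
      (Matrix.GeneralLinearGroup.det : GL (Fin n) F →* Fˣ)).toEquiv]
    refine (Nat.card_le_card_of_injective _ (Subgroup.subtype_injective _)).trans (le_of_eq ?_)
    rw [Nat.card_units, Nat.card_eq_fintype_card]
  have h3 : Fintype.card F ^ (n * (n - 1)) ≤ Nat.card (GL (Fin n) F) := by
    rw [Matrix.card_GL_field]
    calc Fintype.card F ^ (n * (n - 1)) = ∏ _i : Fin n, Fintype.card F ^ (n - 1) := by
          rw [Finset.prod_const, Finset.card_univ, Fintype.card_fin, ← pow_mul, mul_comm]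
      _ ≤ ∏ i : Fin n, (Fintype.card F ^ n - Fintype.card F ^ (i : ℕ)) := by
          refine Finset.prod_le_prod' fun i _ => ?_
          have h4 : Fintype.card F ^ (i : ℕ) ≤ Fintype.card F ^ (n - 1) :=
            Nat.pow_le_pow_right (by omega) (by omega)
          have h5 : 2 * Fintype.card F ^ (n - 1) ≤ Fintype.card F ^ n := by
            obtain ⟨k, rfl⟩ : ∃ k, n = k + 1 := ⟨n - 1, by omega⟩
            rw [show k + 1 - 1 = k by omega, pow_succ, mul_comm]
            exact Nat.mul_le_mul_left _ hq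
          omega
  refine h3.trans ?_
  rw [h1, mul_comm]
  exact Nat.mul_le_mul_left _ h2

theorem pow_le_SL {n : ℕ} (hn : 1 ≤ n) (m : Model Q (Cfsg.Geo.specialLinear (Fin n) F)) :
    Fintype.card F ^ (n * (n - 1)) ≤ Nat.card Q * (Fintype.card F - 1) ^ 2 := by
  refine (pow_le_card_SL hn).trans ?_
  rw [pow_two, ← mul_assoc]
  exact Nat.mul_le_mul_right _ (card_le_mul m)

theorem pow_le_SU {n q : ℕ} (hF : Fintype.card F = q ^ 2) (hn : 1 ≤ n)
    (m : Model Q (Cfsg.GU n F q ⊓ Cfsg.Geo.specialLinear (Fin n) F)) :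
    q ^ (n * (n - 1)) ≤ Nat.card Q * (q ^ 2 - 1) := by
  have hq : 2 ≤ q := by
    by_contra hcon
    have h1 := Fintype.one_lt_card (α := F)
    have h2 : q ^ 2 ≤ 1 ^ 2 := Nat.pow_le_pow_left (by omega) 2
    omega
  have h1 := card_le_mul m
  have h2 := H392.UG.card_ge hF hn hq
  rw [hF] at h1
  refine le_trans (le_of_eq ?_) (h2.trans h1)
  congr 1
  have h3 : 2 ∣ n * (n - 1) := by
    obtain ⟨k, rfl⟩ : ∃ k, n = k + 1 := ⟨n - 1, by omega⟩
    rw [show k + 1 - 1 = k by omega, mul_comm]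
    exact (Nat.even_mul_succ_self k).two_dvd
  omega

end Order

/-! ### `L₃(4)` -/

theorem card_l34 {K : Type*} [Field K] [Fintype K] (hK : Fintype.card K = 4) :
    Nat.card (Matrix.ProjectiveSpecialLinearGroup (Fin 3) K) = 20160 := by
  have h := S0243.result (F := K) hK 3 (by norm_num)
  rw [show Nat.gcd 3 (4 - 1) = 3 by decide, Fin.prod_univ_three] at h
  norm_num at h
  omega

theorem card_aut_l34 {K : Type*} [Field K] [Fintype K] (hK : Fintype.card K = 4) :
    Nat.card (MulAut (Matrix.ProjectiveSpecialLinearGroup (Fin 3) K)) = 241920 := by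
  classical
  have : Fact (Nat.Prime 2) := ⟨Nat.prime_two⟩
  have h1 := S0813.result (F := K) 2 2 (by norm_num) (by rw [hK]; norm_num) 3 (by norm_num) (by norm_num)
  have h2 : Nat.card (Matrix.ProjGenLinGroup (Fin 3) K) * (Fintype.card K - 1) = Nat.card (GL (Fin 3) K) :=
    ClassicalGeometry.PSL2Basic.card_PGL_mul (Fin 3) K
  rw [Matrix.card_GL_field, hK, Fin.prod_univ_three] at h2
  norm_num at h2
  have h3 : Nat.card (Matrix.ProjGenLinGroup (Fin 3) K) = 60480 := by omega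
  rw [h1, h3]
  norm_num

theorem HasSoc.dvd_aut {Q : Type*} [Group Q] [Finite Q] {A : Subgroup Q} {L : Type*} [Group L] [Finite L]
    (h : HasSoc A L) : Nat.card A ∣ Nat.card (MulAut L) := by
  obtain ⟨f, hf⟩ := h.exists_hom
  rw [Nat.card_congr (MonoidHom.ofInjective hf).toEquiv]
  exact Subgroup.card_subgroup_dvd_card _

theorem card_of_soc {Q : Type*} [Group Q] [Finite Q] {A : Subgroup Q} {K : Type} [Field K] [Fintype K]
    (hK : Fintype.card K = 4) (h : HasSoc A (Matrix.ProjectiveSpecialLinearGroup (Fin 3) K)) :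
    ∃ k, k ∣ 12 ∧ Nat.card A = 20160 * k := by
  have h1 := HasSoc.dvd_aut h
  have h2 := h.card_dvd
  rw [card_aut_l34 hK] at h1
  rw [card_l34 hK] at h2
  obtain ⟨k, hk⟩ := h2
  refine ⟨k, ?_, hk⟩
  rw [hk, show 241920 = 20160 * 12 by norm_num] at h1
  exact Nat.dvd_of_mul_dvd_mul_left (by norm_num) h1

/-- the index bound for the socle `L₃(4)` -/
def L34 : Prop := ∀ {Q : Type} [Group Q] [Finite Q], IsSimpleGroup Q → ∀ {A : Subgroup Q} {Γ : Subgroup (MulAut Q)},
  EPT A Γ → ∀ {K : Type} [Field K] [Fintype K], Fintype.card K = 4 →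
    HasSoc A (Matrix.ProjectiveSpecialLinearGroup (Fin 3) K) → A.index ≤ 10 ^ 32

/-- the list of S5818 (weak form) -/
def ListL : Prop := ∀ {F : Type} [Field F] [Fintype F] (H : Subgroup (Matrix.GeneralLinearGroup (Fin 8) F)),
    Cfsg.Geo.IsMaximalIn (Cfsg.Geo.specialLinear (Fin 8) F) H → Cfsg.Geo.InLinearResidualClass H →
    ∃ (P : Subgroup (Matrix.GeneralLinearGroup (Fin 8) F)) (p : ℕ), Cfsg.Geo.IsResidualCore H P ∧ p.Prime ∧ CharP F p ∧ (∃ (K : Type) (_ : Field K) (_ : Fintype K), Fintype.card K = 4 ∧ Nonempty ((P ⧸ (Cfsg.Geo.scalars (Fin 8) F).subgroupOf P) ≃* Matrix.ProjectiveSpecialLinearGroup (Fin 3) K)) ∧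
    ((Fintype.card F = p ∧ (p = 5 ∨ p % 80 = 9 ∨ p % 80 = 21 ∨ p % 80 = 29 ∨ p % 80 = 41 ∨ p % 80 = 61 ∨ p % 80 = 69 ∨ p % 80 = 1 ∨ p % 80 = 49)) ∨
     (Fintype.card F = p ^ 2 ∧ (p % 80 = 3 ∨ p % 80 = 77 ∨ p % 80 = 13 ∨ p % 80 = 67 ∨ p % 80 = 27 ∨ p % 80 = 53 ∨ p % 80 = 37 ∨ p % 80 = 43 ∨ p % 80 = 7 ∨ p % 80 = 73 ∨ p % 80 = 17 ∨ p % 80 = 63 ∨ p % 80 = 23 ∨ p % 80 = 57 ∨ p % 80 = 33 ∨ p % 80 = 47)))

/-- the list of S5821 -/
def ListU : Prop := ∀ {F : Type} [Field F] [Fintype F] (q : ℕ), Fintype.card F = q ^ 2 →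
    ∀ (H : Subgroup (Matrix.GeneralLinearGroup (Fin 8) F)),
    Cfsg.Geo.IsMaximalIn (Cfsg.GU 8 F q ⊓ Cfsg.Geo.specialLinear (Fin 8) F) H → Cfsg.Geo.InUnitaryResidualClass H →
    ∃ P : Subgroup (Matrix.GeneralLinearGroup (Fin 8) F), Cfsg.Geo.IsResidualCore H P ∧ q.Prime ∧ (q % 80 = 11 ∨ q % 80 = 19 ∨ q % 80 = 39 ∨ q % 80 = 51 ∨ q % 80 = 59 ∨ q % 80 = 71 ∨ q % 80 = 31 ∨ q % 80 = 79) ∧
    (∃ (K : Type) (_ : Field K) (_ : Fintype K), Fintype.card K = 4 ∧ Nonempty ((P ⧸ (Cfsg.Geo.scalars (Fin 8) F).subgroupOf P) ≃* Matrix.ProjectiveSpecialLinearGroup (Fin 3) K))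

section Rows

variable {Q : Type} [Group Q] [Finite Q] {A : Subgroup Q} {Γ : Subgroup (MulAut Q)}

theorem core (hL : L34) (hs : IsSimpleGroup Q) (h : EPT A Γ) {K : Type} [Field K] [Fintype K]
    (hK : Fintype.card K = 4) (hsoc : HasSoc A (Matrix.ProjectiveSpecialLinearGroup (Fin 3) K)) {q : ℕ} (hq : 5 ≤ q)
    (hQ : q ^ 54 ≤ Nat.card Q) : False := by
  have h1 := hL hs h hK hsoc
  obtain ⟨k, hk, hA⟩ := card_of_soc hK hsoc
  have hk12 : k ≤ 12 := Nat.le_of_dvd (by norm_num) hk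
  have h2 := A.card_mul_index
  rw [hA] at h2
  have h3 : 5 ^ 54 ≤ q ^ 54 := Nat.pow_le_pow_left hq 54
  have h4 : 20160 * k * A.index ≤ 20160 * 12 * 10 ^ 32 :=
    Nat.mul_le_mul (Nat.mul_le_mul_left _ hk12) h1
  rw [h2] at h4
  have h5 : 20160 * 12 * 10 ^ 32 < 5 ^ 54 := by norm_num
  omega

/-- **the row S5818** -/
theorem row_lin (hL : L34) (hl : ListL) (hs : IsSimpleGroup Q) (h : EPT A Γ) {F : Type} [Field F] [Fintype F]
    (m : Model Q (Cfsg.Geo.specialLinear (Fin 8) F)) (hres : Cfsg.Geo.InLinearResidualClass (m.hat A)) : False := by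
  obtain ⟨P, p, hP, hp, hpF, ⟨K, _, _, hK, ⟨e⟩⟩, hq⟩ := hl (m.hat A) (m.isMaximalIn h.max) hres
  have hsoc := (hasSoc_of_core m hP).congr e
  have hq5 : 5 ≤ Fintype.card F := by
    rcases hq with ⟨hF, hq⟩ | ⟨hF, hq⟩
    · rw [hF]
      have hp2 := hp.two_le
      omega
    · rw [hF]
      have hp2 := hp.two_le
      have hp3 : 3 ≤ p := by
        rcases hp2.eq_or_lt with h2 | h2
        · subst h2
          omega
        · exact h2
      calc 5 ≤ 3 ^ 2 := by norm_num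
        _ ≤ p ^ 2 := Nat.pow_le_pow_left hp3 2
  refine core hL hs h hK hsoc hq5 ?_
  have h1 := pow_le_SL (by norm_num) m
  obtain ⟨q, hq⟩ : ∃ q, q = Fintype.card F := ⟨_, rfl⟩
  rw [← hq] at h1 hq5 ⊢
  have h2 : (q - 1) ^ 2 ≤ q ^ 2 := Nat.pow_le_pow_left (by omega) 2
  have h3 : q ^ 54 * q ^ 2 ≤ Nat.card Q * q ^ 2 := by
    calc q ^ 54 * q ^ 2 = q ^ (8 * (8 - 1)) := by rw [← pow_add]
      _ ≤ Nat.card Q * (q - 1) ^ 2 := h1
      _ ≤ Nat.card Q * q ^ 2 := Nat.mul_le_mul_left _ h2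
  exact Nat.le_of_mul_le_mul_right h3 (pow_pos (by omega) 2)

end Rows

end Cfsg.Agent.H107.EP

private theorem dce_07fa44ab588d : _root_.True := by
  try have : _root_.True := by simp only [_root_.Matrix.ProjectiveSpecialLinearGroup.congr_simp]
  try have : _root_.True := by simp only [_root_.Matrix.ProjGenLinGroup.congr_simp]
  exact _root_.True.intro
end
end
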